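import Cfsg.Agent.Lib.Leech.CoOne.Checks
import Cfsg.Agent.Lib.Leech.CoTwo.Roots
import Cfsg.Agent.Lib.Classical.QuadStd
import Cfsg.Agent.Lib.Classical.QuadPOmega

/-!
# The action of the centraliser of a sign change on the classes of roots modulo two
-/

set_option autoImplicit false
set_option maxRecDepth 100000

namespace CfsgLib.Leech.CoOne

open Cfsg CfsgLib.Golay CfsgLib.Leech CfsgLib.Leech.CoTwo Matrix CfsgLib.Classical

/-- The centraliser of the sign change. -/
abbrev cent0 : Subgroup Co0 := Subgroup.centralizer {tAut}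

/-- The quadratic space. -/
abbrev Q8 : QuadraticForm (ZMod 2) (Fin 4 ⊕ Fin 4 → ZMod 2) := qPlus 4 (ZMod 2)

/-- The position of a coordinate. -/
def posE : Fin 4 ⊕ Fin 4 → ℕ := Sum.elim (fun i => i.val) (fun i => i.val + 4)

theorem posE_lt (k : Fin 4 ⊕ Fin 4) : posE k < 8 := by
  revert k; decide

/-- The vector of a bit string. -/
def vecE (x : ℕ) : Fin 4 ⊕ Fin 4 → ZMod 2 := fun k => if x.testBit (posE k) then 1 else 0

theorem vecE_xor (x y : ℕ) : vecE (x ^^^ y) = vecE x + vecE y := by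
  funext k
  simp only [vecE, Nat.testBit_xor, Pi.add_apply]
  cases x.testBit (posE k) <;> cases y.testBit (posE k) <;> simp
  exact (CharTwo.add_self_eq_zero (1 : ZMod 2)).symm

/-- The value of a truth value. -/
def boolZ (b : Bool) : ZMod 2 := if b then 1 else 0

theorem boolZ_xor (a b : Bool) : boolZ (a != b) = boolZ a + boolZ b := by
  cases a <;> cases b <;> rfl

theorem boolZ_and (a b : Bool) : boolZ (a && b) = boolZ a * boolZ b := by
  cases a <;> cases b <;> rfl

theorem Q8_vecE (x : ℕ) : Q8 (vecE x) = boolZ (quadN x) := by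
  rw [coe_qPlus]
  simp only [quadN, boolZ_xor, boolZ_and, Cfsg.quadFormPlus, Fin.sum_univ_four]
  rfl

theorem polar_vecE (x y : ℕ) : QuadraticMap.polar Q8 (vecE x) (vecE y) = boolZ (polN x y) := by
  rw [QuadraticMap.polar, ← vecE_xor, Q8_vecE, Q8_vecE, Q8_vecE, polN, boolZ_xor, boolZ_xor,
    sub_eq_add_neg, sub_eq_add_neg, ZMod.neg_eq_self_mod_two, ZMod.neg_eq_self_mod_two]

theorem exists_vecE : ∀ v : Fin 4 ⊕ Fin 4 → ZMod 2, ∃ x < 256, vecE x = v := by
  intro v
  refine ⟨Nat.ofBits fun i : Fin 8 => decide (v (finSumFinEquiv.symm i) = 1), Nat.ofBits_lt_two_pow _,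
    funext fun k => ?_⟩
  have hk : posE k = (finSumFinEquiv k : Fin 8).val := by
    rcases k with i | i
    · rw [finSumFinEquiv_apply_left]; rfl
    · rw [finSumFinEquiv_apply_right]; exact Nat.add_comm _ _
  rw [vecE, hk, Nat.testBit_ofBits_lt _ _ (finSumFinEquiv k : Fin 8).isLt]
  simp only [Fin.eta, Equiv.symm_apply_apply, decide_eq_true_eq]
  revert k
  intro k _
  generalize v k = c
  revert c
  decide

/-- The class of a root. -/
def cls (i : Fin 120) : Fin 4 ⊕ Fin 4 → ZMod 2 := vecE (clsN i.val)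

theorem Q8_cls (i : Fin 120) : Q8 (cls i) = 1 := by
  rw [cls, Q8_vecE, (cls_ok.2.2.1 _ i.isLt).2]; rfl

theorem exists_cls {v : Fin 4 ⊕ Fin 4 → ZMod 2} (hv : Q8 v ≠ 0) : ∃ i, v = cls i := by
  obtain ⟨x, hx, rfl⟩ := exists_vecE v
  have h := List.all_eq_true.1 cls_ok.2.2.2 x (List.mem_range.2 hx)
  rw [Q8_vecE] at hv
  have hq : quadN x = true := by
    cases hb : quadN x
    · exact absurd (by rw [hb]; rfl) hv
    · rfl
  simp only [hq, Bool.not_true, Bool.false_or, List.contains_iff_mem] at h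
  obtain ⟨j, hj, e⟩ := List.getElem_of_mem h
  exact ⟨⟨j, cls_ok.1 ▸ hj⟩, by rw [cls, clsN, List.getD_eq_getElem _ _ hj, e]⟩

theorem vecE_injOn : ∀ x < 256, ∀ y < 256, vecE x = vecE y → x = y := by
  intro x hx y hy e
  refine Nat.eq_of_testBit_eq fun i => ?_
  rcases Nat.lt_or_ge i 8 with hi | hi
  · obtain ⟨k, hk⟩ : ∃ k, posE k = i := by
      interval_cases i
      exacts [⟨.inl 0, rfl⟩, ⟨.inl 1, rfl⟩, ⟨.inl 2, rfl⟩, ⟨.inl 3, rfl⟩, ⟨.inr 0, rfl⟩, ⟨.inr 1, rfl⟩,
        ⟨.inr 2, rfl⟩, ⟨.inr 3, rfl⟩]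
    have h := congrFun e k
    simp only [vecE, hk] at h
    revert h
    cases x.testBit i <;> cases y.testBit i <;> simp
  · rw [Nat.testBit_lt_two_pow (lt_of_lt_of_le hx (Nat.pow_le_pow_right (by norm_num : 2 > 0) hi)),
      Nat.testBit_lt_two_pow (lt_of_lt_of_le hy (Nat.pow_le_pow_right (by norm_num : 2 > 0) hi))]

theorem cls_injective : Function.Injective cls := by
  intro i j e
  have h := vecE_injOn _ (cls_ok.2.2.1 _ i.isLt).1 _ (cls_ok.2.2.1 _ j.isLt).1 e
  rw [clsN, clsN, List.getD_eq_getElem _ _ (cls_ok.1.symm ▸ i.isLt),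
    List.getD_eq_getElem _ _ (cls_ok.1.symm ▸ j.isLt)] at h
  exact Fin.ext (cls_ok.2.1.getElem_inj_iff.1 h)

theorem eight_facts (i : Fin 120) : (rootEight.getD i.val []).length = 8 ∧
    leechTest (rootE i.val) = true ∧ dotL (rootE i.val) (rootE i.val) = 32 := by
  have h := eight_ok.2
  simp only [List.all_eq_true, List.mem_range, Bool.and_eq_true, decide_eq_true_eq, beq_iff_eq] at h
  exact ⟨(h i.val i.isLt).1.1, (h i.val i.isLt).1.2, (h i.val i.isLt).2⟩

/-- A root as a lattice vector. -/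
def rootW (i : Fin 120) : leechLattice :=
  ⟨toVec (rootE i.val), mem_of_leechTest (eight_facts i).2.1⟩

theorem coe_rootW (i : Fin 120) : (rootW i : GolayPt → ℤ) = toVec (rootE i.val) := rfl

theorem rootE_length (i : ℕ) : (rootE i).length = 24 := by simp [rootE, full24]

theorem rootW_supp (i : Fin 120) : ∀ p, p ∉ toSet octMask → (rootW i : GolayPt → ℤ) p = 0 := by
  intro p hp
  rw [mem_oct_iff] at hp
  rw [coe_rootW, toVec, rootE, full24,
    List.getD_eq_getElem _ _ (by simp)]
  simp only [List.getElem_map, List.getElem_range]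
  rw [List.filter_eq_nil_iff.2 fun e he => ?_]
  · rfl
  · simp only [beq_iff_eq]
    exact fun h => hp (h ▸ (List.of_mem_zip (a := e.1) (b := e.2) he).1)

theorem sqNorm_rootW (i : Fin 120) : sqNorm (rootW i : GolayPt → ℤ) = 32 := by
  rw [coe_rootW, ← (eight_facts i).2.2, ← dotInt_toVec, sqNorm, dotInt]
  simp [pow_two]

theorem rootW_ne {i j : Fin 120} : (rootW i = rootW j → i = j) ∧ rootW i ≠ -rootW j := by
  obtain ⟨hd1, -, hd2⟩ := List.nodup_append.1 eight_distinct
  constructor
  · intro h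
    have h' := toVec_inj (rootE_length _) (rootE_length _)
      (congrArg (fun v : leechLattice => (v : GolayPt → ℤ)) h)
    exact Fin.ext (List.inj_on_of_nodup_map hd1 (List.mem_range.2 i.isLt) (List.mem_range.2 j.isLt) h')
  · intro h
    have h1 : toVec (rootE i.val) = toVec (negL (rootE j.val)) := by
      rw [toVec_negL]; exact congrArg (fun v : leechLattice => (v : GolayPt → ℤ)) h
    have h' := toVec_inj (rootE_length _) (by simp [negL, rootE_length]) h1
    exact hd2 _ (List.mem_map.2 ⟨i.val, List.mem_range.2 i.isLt, rfl⟩) _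
      (List.mem_map.2 ⟨j.val, List.mem_range.2 j.isLt, rfl⟩) h'

/-- The vectors of squared length 32 on the octad are the roots. -/
theorem eight_classify {v : leechLattice} (hs : ∀ p, p ∉ toSet octMask → (v : GolayPt → ℤ) p = 0)
    (hn : sqNorm (v : GolayPt → ℤ) = 32) : ∃ j, v = rootW j ∨ v = -rootW j := by
  set x : GolayPt → ℤ := (v : GolayPt → ℤ) with hx
  obtain ⟨m, hpar, hsum, hcode⟩ := mem_leechLattice_iff.1 v.2
  rw [← hx] at hpar hsum hcode
  have hout : pt outPt ∉ toSet octMask := by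
    rw [pt_mem_toSet octMask_ok.2.2.2.2.2.2.2.2.2, octMask_ok.2.2.2.2.2.2.2.2.1]; simp
  have hm : m % 2 = 0 := by
    have h := hpar (pt outPt)
    rw [hs _ hout] at h
    exact h.symm
  set C := Finset.univ.filter fun p => x p ≡ 2 [ZMOD 4] with hC
  have hCsub : C ⊆ toSet octMask := by
    intro p hp
    by_contra hc
    have := (Finset.mem_filter.1 hp).2
    rw [hs p hc] at this
    exact absurd this (by decide)
  have hcard : (toSet octMask).card = 8 := by decide +kernel
  have hCcase : C = ∅ ∨ C = toSet octMask := by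
    rcases C.eq_empty_or_nonempty with h | h
    · exact Or.inl h
    · exact Or.inr (Finset.eq_of_subset_of_card_le hCsub (hcard ▸ eight_le_card (hcode 2) h))
  set l := octPts.map fun i => x (pt i) with hl
  have hlen : l.length = 8 := by simp [hl, octMask_ok.2.2.1]
  have hxl : x = toVec (full24 l) := by
    funext p
    rw [toVec, hl, full24_getD _ _ (ptEquiv p).isLt, pt_ptEquiv]
    split
    · rfl
    · rename_i h
      exact hs p (by rw [mem_toSet]; exact h)
  have hsq : (l.map fun a => a * a).sum = 32 := by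
    rw [← hn, sqNorm, sum_pt, ← sum_full24 l hlen (fun a => a * a) (by norm_num)]
    refine congrArg List.sum (List.map_congr_left fun i hi => ?_)
    rw [hxl, toVec_pt _ (List.mem_range.1 hi), pow_two]
  have hmod : l.sum % 8 = 0 := by
    have h := hsum
    rw [sum_pt, List.map_congr_left (g := fun i => (full24 l).getD i 0) (fun i hi => by
      show x (pt i) = _; rw [hxl, toVec_pt _ (List.mem_range.1 hi)]),
      sum_full24 l hlen (fun a => a) rfl, List.map_id'] at h
    unfold Int.ModEq at h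
    omega
  have hsmall : ∀ p, x p ^ 2 ≤ 32 := fun p => abs_le_of_sqNorm (le_of_eq hn) p
  have hev : ∀ p, x p % 2 = 0 := fun p => by
    have h : x p % 2 = m % 2 := hpar p
    omega
  have hmem : l ∈ cands [-2, 2] 8 ∨ l ∈ cands [-4, 0, 4] 8 := by
    rcases hCcase with hc | hc
    · refine Or.inr (mem_cands hlen fun a ha => ?_)
      obtain ⟨i, -, rfl⟩ := List.mem_map.1 ha
      have h1 : ¬ x (pt i) % 4 = 2 := fun h => by
        have : pt i ∈ C := Finset.mem_filter.2 ⟨Finset.mem_univ _, h⟩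
        rw [hc] at this; exact Finset.notMem_empty _ this
      have h2 := hev (pt i)
      have h3 := hsmall (pt i)
      have h4 : -5 ≤ x (pt i) ∧ x (pt i) ≤ 5 := ⟨by nlinarith, by nlinarith⟩
      simp only [List.mem_cons, List.not_mem_nil, or_false]
      omega
    · refine Or.inl (mem_cands hlen fun a ha => ?_)
      obtain ⟨i, hi, rfl⟩ := List.mem_map.1 ha
      have h1 : x (pt i) % 4 = 2 := by
        have hp : pt i ∈ toSet octMask := by
          rw [mem_oct_iff, ptEquiv_pt (octMask_ok.2.2.2.2.2.1 i hi)]; exact hi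
        exact (Finset.mem_filter.1 (hc.symm ▸ hp : pt i ∈ C)).2
      have h3 := hsmall (pt i)
      have h4 : -5 ≤ x (pt i) ∧ x (pt i) ≤ 5 := ⟨by nlinarith, by nlinarith⟩
      simp only [List.mem_cons, List.not_mem_nil, or_false]
      omega
  have hok : candEight l = true := by
    rcases hmem with h | h
    · exact List.all_eq_true.1 cands_eight.1 l h
    · exact List.all_eq_true.1 cands_eight.2 l h
  simp only [candEight, hsq, hmod, beq_self_eq_true, Bool.and_self, Bool.not_true, Bool.false_or,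
    Bool.or_eq_true, List.contains_iff_mem] at hok
  rcases hok with h | h
  · obtain ⟨j, hj, e⟩ := List.getElem_of_mem h
    refine ⟨⟨j, eight_ok.1 ▸ hj⟩, Or.inl (Subtype.ext ?_)⟩
    rw [coe_rootW, rootE, List.getD_eq_getElem _ _ hj, e]
    exact hxl
  · obtain ⟨j, hj, e⟩ := List.getElem_of_mem h
    refine ⟨⟨j, eight_ok.1 ▸ hj⟩, Or.inr (Subtype.ext ?_)⟩
    rw [AddSubgroup.coe_neg, coe_rootW, rootE, List.getD_eq_getElem _ _ hj, e, ← hx, hxl, ← toVec_negL]
    refine congrArg toVec ?_
    rcases l with _ | ⟨a0, _ | ⟨a1, _ | ⟨a2, _ | ⟨a3, _ | ⟨a4, _ | ⟨a5, _ | ⟨a6, _ | ⟨a7, _ | ⟨a8, t⟩⟩⟩⟩⟩⟩⟩⟩⟩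
    all_goals simp at hlen
    simp [negL, full24, der_ok.2, List.range_succ_eq_map]

theorem cent0_fix_supp {g : Co0} (hg : g ∈ cent0) {v : leechLattice}
    (hv : ∀ p, p ∉ toSet octMask → (v : GolayPt → ℤ) p = 0) :
    ∀ p, p ∉ toSet octMask → ((g • v : leechLattice) : GolayPt → ℤ) p = 0 := by
  rw [← tAut_smul_eq_self] at hv ⊢
  rw [← mul_smul, ← Subgroup.mem_centralizer_singleton_iff.1 hg, mul_smul, hv]

theorem exists_imgE (g : cent0) (i : Fin 120) :
    ∃ j, (g : Co0) • rootW i = rootW j ∨ (g : Co0) • rootW i = -rootW j :=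
  eight_classify (cent0_fix_supp g.2 (rootW_supp i)) (by rw [sqNorm_smul_co, sqNorm_rootW])

/-- The index of the image of a root. -/
noncomputable def imgE (g : cent0) (i : Fin 120) : Fin 120 := (exists_imgE g i).choose

theorem imgE_spec (g : cent0) (i : Fin 120) :
    (g : Co0) • rootW i = rootW (imgE g i) ∨ (g : Co0) • rootW i = -rootW (imgE g i) :=
  (exists_imgE g i).choose_spec

theorem imgE_unique {g : cent0} {i j : Fin 120}
    (h : (g : Co0) • rootW i = rootW j ∨ (g : Co0) • rootW i = -rootW j) : imgE g i = j := by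
  rcases imgE_spec g i with a | a <;> rcases h with b | b <;> rw [a] at b
  · exact rootW_ne.1 b
  · exact absurd b rootW_ne.2
  · exact absurd b.symm rootW_ne.2
  · exact rootW_ne.1 (neg_injective b)

theorem imgE_one (i : Fin 120) : imgE 1 i = i :=
  imgE_unique (Or.inl (by rw [OneMemClass.coe_one, one_smul]))

theorem imgE_mul (g h : cent0) (i : Fin 120) : imgE (g * h) i = imgE g (imgE h i) := by
  apply imgE_unique
  rw [Subgroup.coe_mul, mul_smul]
  rcases imgE_spec h i with a | a <;> rcases imgE_spec g (imgE h i) with b | b <;>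
    simp [a, b, smul_neg']

theorem polar_cls (i j : Fin 120) :
    QuadraticMap.polar Q8 (cls i) (cls j) =
      boolZ (dotL (rootE i.val) (rootE j.val) / 16 % 2 == 1) := by
  have h := eight_form
  simp only [List.all_eq_true, List.mem_range, Bool.and_eq_true, beq_iff_eq] at h
  rw [cls, cls, polar_vecE, ← (h i.val i.isLt j.val j.isLt).2]

theorem imgE_form (g : cent0) (i j : Fin 120) :
    QuadraticMap.polar Q8 (cls (imgE g i)) (cls (imgE g j)) = QuadraticMap.polar Q8 (cls i) (cls j) := by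
  rw [polar_cls, polar_cls]
  have key : ∀ a b : Fin 120, dotInt (rootW a : GolayPt → ℤ) (rootW b : GolayPt → ℤ) =
      dotL (rootE a.val) (rootE b.val) := fun a b => dotInt_toVec _ _
  have h := dot_smul_co (g : Co0) (rootW i) (rootW j)
  have hsign : dotL (rootE (imgE g i).val) (rootE (imgE g j).val) = dotL (rootE i.val) (rootE j.val) ∨
      dotL (rootE (imgE g i).val) (rootE (imgE g j).val) = -dotL (rootE i.val) (rootE j.val) := by
    rw [← key, ← key]
    rcases imgE_spec g i with a | a <;> rcases imgE_spec g j with b | b <;>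
      rw [a, b] at h <;>
      simp only [AddSubgroup.coe_neg, dotInt, Pi.neg_apply, neg_mul, mul_neg, neg_neg,
        Finset.sum_neg_distrib] at h ⊢
    · exact Or.inl h
    · exact Or.inr (by linarith)
    · exact Or.inr (by linarith)
    · exact Or.inl h
  have h16 := eight_form
  simp only [List.all_eq_true, List.mem_range, Bool.and_eq_true, beq_iff_eq] at h16
  obtain ⟨h1, -⟩ := h16 i.val i.isLt j.val j.isLt
  rcases hsign with e | e <;> rw [e]
  rw [Int.neg_ediv_of_dvd (Int.dvd_of_emod_eq_zero h1)]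
  congr 1
  rw [Bool.eq_iff_iff, beq_iff_eq, beq_iff_eq]
  omega

/-- The first root of the pair summing to a unit vector. -/
def stdA (k : Fin 4 ⊕ Fin 4) : Fin 120 :=
  ⟨(stdPairs.getD (posE k) (0, 0)).1, (stdPairs_ok _ (posE_lt k)).1⟩

/-- The second root of the pair summing to a unit vector. -/
def stdB (k : Fin 4 ⊕ Fin 4) : Fin 120 :=
  ⟨(stdPairs.getD (posE k) (0, 0)).2, (stdPairs_ok _ (posE_lt k)).2.1⟩

theorem single_eq_cls (k : Fin 4 ⊕ Fin 4) :
    (Pi.single k 1 : Fin 4 ⊕ Fin 4 → ZMod 2) = cls (stdA k) + cls (stdB k) := by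
  rw [cls, cls, ← vecE_xor]
  show _ = vecE (clsN (stdPairs.getD (posE k) (0, 0)).1 ^^^ clsN (stdPairs.getD (posE k) (0, 0)).2)
  rw [(stdPairs_ok _ (posE_lt k)).2.2]
  revert k
  decide

/-- The linear map of an element. -/
noncomputable def linE (g : cent0) :
    (Fin 4 ⊕ Fin 4 → ZMod 2) →ₗ[ZMod 2] (Fin 4 ⊕ Fin 4 → ZMod 2) :=
  Fintype.linearCombination (ZMod 2) fun k => cls (imgE g (stdA k)) + cls (imgE g (stdB k))

theorem polar_linE (g : cent0) (v : Fin 4 ⊕ Fin 4 → ZMod 2) (s : Fin 120) :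
    QuadraticMap.polar Q8 (linE g v) (cls (imgE g s)) = QuadraticMap.polar Q8 v (cls s) := by
  have h : ((QuadraticMap.polarBilin Q8).flip (cls (imgE g s))).comp (linE g) =
      (QuadraticMap.polarBilin Q8).flip (cls s) := by
    refine (Pi.basisFun (ZMod 2) (Fin 4 ⊕ Fin 4)).ext fun k => ?_
    simp only [Pi.basisFun_apply, LinearMap.comp_apply, LinearMap.flip_apply,
      QuadraticMap.polarBilin_apply_apply]
    rw [linE, Fintype.linearCombination_apply_single, one_smul, single_eq_cls k,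
      QuadraticMap.polar_add_left, QuadraticMap.polar_add_left, imgE_form, imgE_form]
  exact LinearMap.congr_fun h v

theorem eq_of_polar_cls {a b : Fin 4 ⊕ Fin 4 → ZMod 2}
    (h : ∀ s, QuadraticMap.polar Q8 a (cls s) = QuadraticMap.polar Q8 b (cls s)) : a = b := by
  have hl : QuadraticMap.polarBilin Q8 a = QuadraticMap.polarBilin Q8 b := by
    refine (Pi.basisFun (ZMod 2) (Fin 4 ⊕ Fin 4)).ext fun k => ?_
    simp only [Pi.basisFun_apply, QuadraticMap.polarBilin_apply_apply, single_eq_cls k,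
      QuadraticMap.polar_add_right, h]
  refine sub_eq_zero.1 (polarNondeg_qPlus 4 _ fun w => ?_)
  rw [QuadraticMap.polar_sub_left, sub_eq_zero]
  exact LinearMap.congr_fun hl w

theorem linE_cls (g : cent0) (i : Fin 120) : linE g (cls i) = cls (imgE g i) := by
  refine eq_of_polar_cls fun s => ?_
  obtain ⟨s, rfl⟩ : ∃ s', imgE g s' = s := ⟨imgE g⁻¹ s, by rw [← imgE_mul, mul_inv_cancel, imgE_one]⟩
  rw [polar_linE, imgE_form]

theorem lin_ext {A B : (Fin 4 ⊕ Fin 4 → ZMod 2) →ₗ[ZMod 2] (Fin 4 ⊕ Fin 4 → ZMod 2)}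
    (h : ∀ i, A (cls i) = B (cls i)) : A = B :=
  (Pi.basisFun (ZMod 2) (Fin 4 ⊕ Fin 4)).ext fun k => by
    simp only [Pi.basisFun_apply, single_eq_cls k, map_add, h]

theorem linE_comp (g h : cent0) (v : Fin 4 ⊕ Fin 4 → ZMod 2) :
    linE g (linE h v) = linE (g * h) v :=
  LinearMap.congr_fun (lin_ext (A := (linE g).comp (linE h)) fun i => by
    rw [LinearMap.comp_apply, linE_cls, linE_cls, linE_cls, imgE_mul]) v

theorem linE_one (v : Fin 4 ⊕ Fin 4 → ZMod 2) : linE 1 v = v :=
  LinearMap.congr_fun (lin_ext (B := LinearMap.id) fun i => by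
    rw [linE_cls, imgE_one, LinearMap.id_apply]) v

theorem linE_quad (g : cent0) (v : Fin 4 ⊕ Fin 4 → ZMod 2) : Q8 (linE g v) = Q8 v := by
  have two : ∀ c : ZMod 2, c ≠ 0 → c = 1 := by decide
  by_cases hv : Q8 v = 0
  · rw [hv]
    by_contra h
    obtain ⟨s, hs⟩ := exists_cls h
    have e := congrArg (linE g⁻¹) hs
    rw [linE_comp, inv_mul_cancel, linE_one, linE_cls] at e
    rw [e, Q8_cls] at hv
    exact one_ne_zero hv
  · obtain ⟨s, rfl⟩ := exists_cls hv
    rw [linE_cls, Q8_cls, Q8_cls]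

/-- The linear automorphism of an element. -/
noncomputable def autE (g : cent0) : qAut Q8 :=
  ⟨LinearEquiv.ofLinearMap (linE g) (linE g⁻¹)
    (LinearMap.ext fun v => by rw [LinearMap.comp_apply, linE_comp, mul_inv_cancel, linE_one, LinearMap.id_apply])
    (LinearMap.ext fun v => by rw [LinearMap.comp_apply, linE_comp, inv_mul_cancel, linE_one, LinearMap.id_apply]),
    linE_quad g⟩

theorem autE_apply (g : cent0) (v : Fin 4 ⊕ Fin 4 → ZMod 2) : (autE g).1 v = linE g v := rfl

/-- The homomorphism to the orthogonal group. -/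
noncomputable def toO : cent0 →* qAut Q8 :=
  MonoidHom.mk' autE fun a b => qAut_ext fun v => (linE_comp a b v).symm

theorem toO_cls (g : cent0) (i : Fin 120) : (toO g).1 (cls i) = cls (imgE g i) := linE_cls g i

theorem toO_eq_one_iff (g : cent0) : toO g = 1 ↔ ∀ i, imgE g i = i := by
  constructor
  · intro h i
    have e := toO_cls g i
    rw [h] at e
    exact (cls_injective e).symm
  · intro h
    exact qAut_ext fun v => LinearMap.congr_fun (lin_ext (A := linE g) (B := LinearMap.id) fun i => by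
      rw [linE_cls, h, LinearMap.id_apply]) v

end CfsgLib.Leech.CoOne
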