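import Cfsg.Agent.Lib.Leech.CoOne.Data
import Cfsg.Agent.Lib.Leech.CoTwo.Checks

/-!
# Kernel checks of the tables of the root system on the octad
-/

set_option autoImplicit false
set_option maxRecDepth 100000

namespace CfsgLib.Leech.CoOne

open Cfsg CfsgLib.Golay CfsgLib.Leech.CoTwo

/-- A root on the octad. -/
def rootE (i : ℕ) : List ℤ := full24 (rootEight.getD i [])

/-- The class of a root. -/
def clsN (i : ℕ) : ℕ := classTab.getD i 0

/-- The quadratic form on bit strings. -/
def quadN (x : ℕ) : Bool :=
  (((x.testBit 0 && x.testBit 4) != (x.testBit 1 && x.testBit 5)) !=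
    (x.testBit 2 && x.testBit 6)) != (x.testBit 3 && x.testBit 7)

/-- The bilinear form on bit strings. -/
def polN (x y : ℕ) : Bool := (quadN (x ^^^ y) != quadN x) != quadN y

/-- The reflection on bit strings. -/
def reflN (v x : ℕ) : ℕ := if polN x v then x ^^^ v else x

/-- A candidate on the octad is not a root or is one of the listed ones. -/
def candEight (h : List ℤ) : Bool :=
  !((h.map fun a => a * a).sum == 32 && h.sum % 8 == 0) || rootEight.contains h ||
    rootEight.contains (negL h)

theorem cands_eight :
    (cands [-2, 2] 8).all candEight = true ∧ (cands [-4, 0, 4] 8).all candEight = true := by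
  decide +kernel

theorem eight_ok : rootEight.length = 120 ∧ (List.range 120).all (fun i =>
    decide ((rootEight.getD i []).length = 8) && leechTest (rootE i) &&
      dotL (rootE i) (rootE i) == 32) = true := by
  decide +kernel

theorem eight_distinct :
    (((List.range 120).map rootE) ++ (List.range 120).map fun i => negL (rootE i)).Nodup := by
  decide +kernel

theorem eight_prefix : (∀ i < 63, rootE i = rootL i) ∧ rootE 63 = uList := by decide +kernel

theorem eight_form : (List.range 120).all (fun i => (List.range 120).all fun j =>
    let d := dotL (rootE i) (rootE j)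
    d % 16 == 0 && (d / 16 % 2 == 1) == polN (clsN i) (clsN j)) = true := by
  decide +kernel

theorem eight_conn : (List.range 120).all (fun i => (List.range 120).any fun k =>
    !(dotL (rootE i) (rootE k) == 0) && !(dotL (rootE k) (rootE 0) == 0)) = true := by
  decide +kernel

theorem cls_ok : classTab.length = 120 ∧ classTab.Nodup ∧ (∀ i < 120, clsN i < 256 ∧ quadN (clsN i) = true) ∧
    (List.range 256).all (fun x => !quadN x || classTab.contains x) = true := by
  decide +kernel

theorem stdPairs_ok : ∀ k < 8, (stdPairs.getD k (0, 0)).1 < 120 ∧ (stdPairs.getD k (0, 0)).2 < 120 ∧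
    clsN (stdPairs.getD k (0, 0)).1 ^^^ clsN (stdPairs.getD k (0, 0)).2 = 2 ^ k := by
  decide +kernel

/-- The check of an automorphism with its action on the roots of the octad. -/
def genCheckE (M : List (List (ℕ × ℤ))) (P : List ℕ) : Bool :=
  matCheck M (trMat M) && matCheck (trMat M) M &&
  ((List.range 24).all fun i => (M.getD i []).all fun e =>
    decide (e.1 < 24) && octMask.testBit i == octMask.testBit e.1) &&
  (List.range 120).all fun i => decide (P.getD i 0 < 120) &&
    (imgList M (rootE i) == rootE (P.getD i 0) || imgList M (rootE i) == negL (rootE (P.getD i 0)))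

theorem genA_ok : genCheckE mat0 (permGen.getD 0 []) = true := by decide +kernel

theorem genB_ok : genCheckE mat1 (permGen.getD 1 []) = true := by decide +kernel

theorem genC_ok : genCheckE matM (permGen.getD 2 []) = true := by decide +kernel

theorem genPair_ok : genCheckE matT permPair = true := by decide +kernel

theorem pair_refl : ∀ i < 120, clsN (permPair.getD i 0) = reflN (clsN 0) (reflN (clsN 63) (clsN i)) := by
  decide +kernel

theorem edge_ok : edgeTab.getD 0 (0, 0) = (0, 63) ∧
    edgePar.length + 1 = edgeTab.length ∧
    (∀ k < edgePar.length, (edgePar.getD k (0, 0)).2 ≤ k ∧ (edgePar.getD k (0, 0)).1 < 3 ∧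
      edgeTab.getD (k + 1) (0, 0) =
        ((permGen.getD (edgePar.getD k (0, 0)).1 []).getD (edgeTab.getD (edgePar.getD k (0, 0)).2 (0, 0)).1 0,
        (permGen.getD (edgePar.getD k (0, 0)).1 []).getD (edgeTab.getD (edgePar.getD k (0, 0)).2 (0, 0)).2 0)) := by
  decide +kernel

theorem tree_ok : treePts.getD 0 0 = 63 ∧ treePts.length = 120 ∧ treePar.length = 119 ∧
    (∀ i < 120, treePts.contains i = true) ∧
    (∀ k < 119, (treePar.getD k (0, 0)).1 ≤ k ∧ (treePar.getD k (0, 0)).2 < edgeTab.length ∧
      (edgeTab.getD (treePar.getD k (0, 0)).2 (0, 0) =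
          (treePts.getD (k + 1) 0, treePts.getD (treePar.getD k (0, 0)).1 0) ∨
        edgeTab.getD (treePar.getD k (0, 0)).2 (0, 0) =
          (treePts.getD (treePar.getD k (0, 0)).1 0, treePts.getD (k + 1) 0))) := by
  decide +kernel

theorem outDer_ok :
    fixCheck ((List.range 24).filter fun i => !octMask.testBit i) outDer = true := by
  decide +kernel

theorem dc_sep : ∀ q < 24, octMask.testBit q = false → ∀ i < 24, i = q ∨
    ∃ b < 32, (dc b).testBit i ≠ (dc b).testBit q := by
  decide +kernel

theorem code_invariant : golayList.all (fun n =>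
    !((List.range 16).all fun a => imgMask (tr a) n == n) ||
      [0, 16777215, octMask, outMask].contains n) = true := by
  decide +kernel

theorem dc_octad : ∃ b : Fin 32, bitCount (dc b.val) = 8 := by decide +kernel

end CfsgLib.Leech.CoOne
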