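import Mathlib.Data.Nat.Notation
import Mathlib.Data.Int.Notation

/-!
Generated data: the roots of the norm doubled lattice on an octad with their classes modulo two,
automorphisms commuting with the sign change and a tree of pairs of reflections.
-/

set_option autoImplicit false

namespace CfsgLib.Leech.CoOne

/-- The roots: first those orthogonal to the fixed vector, then this vector. -/
def rootEight : List (List ℤ) :=
  [[4, -4, 0, 0, 0, 0, 0, 0],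
   [0, 0, -4, 0, 0, 0, 0, -4],
   [0, 0, -4, 0, 0, 0, 0, 4],
   [0, 0, 0, -4, 0, 4, 0, 0],
   [0, 0, 0, -4, 0, -4, 0, 0],
   [0, 0, 0, 0, -4, 0, 4, 0],
   [0, 0, 0, 0, -4, 0, -4, 0],
   [-2, 2, -2, -2, -2, -2, -2, 2],
   [-2, 2, 2, 2, 2, 2, 2, -2],
   [-2, 2, -2, 2, 2, 2, 2, 2],
   [-2, 2, 2, -2, -2, -2, -2, -2],
   [-2, 2, 2, -2, 2, -2, 2, -2],
   [-2, 2, -2, 2, -2, 2, -2, 2],
   [-2, 2, 2, 2, -2, 2, -2, -2],
   [-2, 2, -2, -2, 2, -2, 2, 2],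
   [0, 0, -4, 0, 0, 0, 4, 0],
   [0, 0, -4, 0, 0, 0, -4, 0],
   [0, 0, 0, 0, 0, 0, -4, -4],
   [0, 0, 0, 0, 0, 0, -4, 4],
   [0, 0, 0, 0, -4, 0, 0, -4],
   [0, 0, 0, 0, -4, 0, 0, 4],
   [0, 0, -4, 0, 4, 0, 0, 0],
   [0, 0, -4, 0, -4, 0, 0, 0],
   [-2, 2, -2, 2, 2, 2, -2, -2],
   [-2, 2, 2, -2, -2, -2, 2, 2],
   [-2, 2, 2, 2, 2, 2, -2, 2],
   [-2, 2, -2, -2, -2, -2, 2, -2],
   [-2, 2, 2, 2, -2, 2, 2, 2],
   [-2, 2, -2, -2, 2, -2, -2, -2],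
   [-2, 2, -2, 2, -2, 2, 2, -2],
   [-2, 2, 2, -2, 2, -2, -2, 2],
   [0, 0, 0, -4, 4, 0, 0, 0],
   [0, 0, 0, -4, -4, 0, 0, 0],
   [0, 0, 0, 0, 0, -4, 4, 0],
   [0, 0, 0, 0, 0, -4, -4, 0],
   [0, 0, 0, 0, -4, 4, 0, 0],
   [0, 0, 0, 0, -4, -4, 0, 0],
   [0, 0, 0, -4, 0, 0, 4, 0],
   [0, 0, 0, -4, 0, 0, -4, 0],
   [-2, 2, 2, -2, -2, 2, 2, -2],
   [-2, 2, -2, 2, 2, -2, -2, 2],
   [-2, 2, 2, 2, 2, -2, -2, -2],
   [-2, 2, -2, -2, -2, 2, 2, 2],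
   [-2, 2, 2, 2, -2, -2, 2, -2],
   [-2, 2, -2, -2, 2, 2, -2, 2],
   [-2, 2, 2, -2, 2, 2, -2, -2],
   [-2, 2, -2, 2, -2, -2, 2, 2],
   [0, 0, 0, 0, 0, -4, 0, -4],
   [0, 0, 0, 0, 0, -4, 0, 4],
   [0, 0, -4, 0, 0, 4, 0, 0],
   [0, 0, -4, 0, 0, -4, 0, 0],
   [0, 0, 0, -4, 0, 0, 0, -4],
   [0, 0, 0, -4, 0, 0, 0, 4],
   [0, 0, -4, 4, 0, 0, 0, 0],
   [0, 0, -4, -4, 0, 0, 0, 0],
   [-2, 2, 2, 2, 2, -2, 2, 2],
   [-2, 2, -2, -2, -2, 2, -2, -2],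
   [-2, 2, -2, 2, 2, -2, 2, -2],
   [-2, 2, 2, -2, -2, 2, -2, 2],
   [-2, 2, 2, -2, 2, 2, 2, 2],
   [-2, 2, -2, 2, -2, -2, -2, -2],
   [-2, 2, -2, -2, 2, 2, 2, -2],
   [-2, 2, 2, 2, -2, -2, -2, 2],
   [4, 4, 0, 0, 0, 0, 0, 0],
   [-2, -2, -2, -2, -2, -2, -2, -2],
   [-2, -2, -2, -2, -2, -2, 2, 2],
   [-2, -2, -2, -2, -2, 2, -2, 2],
   [-2, -2, -2, -2, -2, 2, 2, -2],
   [-2, -2, -2, -2, 2, -2, -2, 2],
   [-2, -2, -2, -2, 2, -2, 2, -2],
   [-2, -2, -2, -2, 2, 2, -2, -2],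
   [-2, -2, -2, -2, 2, 2, 2, 2],
   [-2, -2, -2, 2, -2, -2, -2, 2],
   [-2, -2, -2, 2, -2, -2, 2, -2],
   [-2, -2, -2, 2, -2, 2, -2, -2],
   [-2, -2, -2, 2, -2, 2, 2, 2],
   [-2, -2, -2, 2, 2, -2, -2, -2],
   [-2, -2, -2, 2, 2, -2, 2, 2],
   [-2, -2, -2, 2, 2, 2, -2, 2],
   [-2, -2, -2, 2, 2, 2, 2, -2],
   [-2, -2, 2, -2, -2, -2, -2, 2],
   [-2, -2, 2, -2, -2, -2, 2, -2],
   [-2, -2, 2, -2, -2, 2, -2, -2],
   [-2, -2, 2, -2, -2, 2, 2, 2],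
   [-2, -2, 2, -2, 2, -2, -2, -2],
   [-2, -2, 2, -2, 2, -2, 2, 2],
   [-2, -2, 2, -2, 2, 2, -2, 2],
   [-2, -2, 2, -2, 2, 2, 2, -2],
   [-2, -2, 2, 2, -2, -2, -2, -2],
   [-2, -2, 2, 2, -2, -2, 2, 2],
   [-2, -2, 2, 2, -2, 2, -2, 2],
   [-2, -2, 2, 2, -2, 2, 2, -2],
   [-2, -2, 2, 2, 2, -2, -2, 2],
   [-2, -2, 2, 2, 2, -2, 2, -2],
   [-2, -2, 2, 2, 2, 2, -2, -2],
   [-2, -2, 2, 2, 2, 2, 2, 2],
   [-4, 0, -4, 0, 0, 0, 0, 0],
   [-4, 0, 0, -4, 0, 0, 0, 0],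
   [-4, 0, 0, 0, -4, 0, 0, 0],
   [-4, 0, 0, 0, 0, -4, 0, 0],
   [-4, 0, 0, 0, 0, 0, -4, 0],
   [-4, 0, 0, 0, 0, 0, 0, -4],
   [-4, 0, 0, 0, 0, 0, 0, 4],
   [-4, 0, 0, 0, 0, 0, 4, 0],
   [-4, 0, 0, 0, 0, 4, 0, 0],
   [-4, 0, 0, 0, 4, 0, 0, 0],
   [-4, 0, 0, 4, 0, 0, 0, 0],
   [-4, 0, 4, 0, 0, 0, 0, 0],
   [0, -4, -4, 0, 0, 0, 0, 0],
   [0, -4, 0, -4, 0, 0, 0, 0],
   [0, -4, 0, 0, -4, 0, 0, 0],
   [0, -4, 0, 0, 0, -4, 0, 0],
   [0, -4, 0, 0, 0, 0, -4, 0],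
   [0, -4, 0, 0, 0, 0, 0, -4],
   [0, -4, 0, 0, 0, 0, 0, 4],
   [0, -4, 0, 0, 0, 0, 4, 0],
   [0, -4, 0, 0, 0, 4, 0, 0],
   [0, -4, 0, 0, 4, 0, 0, 0],
   [0, -4, 0, 4, 0, 0, 0, 0],
   [0, -4, 4, 0, 0, 0, 0, 0]]

/-- The classes of the roots as bit strings. -/
def classTab : List ℕ :=
  [136, 137, 141, 138, 142, 143, 139, 127, 247, 122, 242, 121, 241, 124, 244, 152, 156, 17, 21, 158, 154, 23, 19, 107, 227, 226, 106, 109, 229, 228, 108, 168, 172, 173, 169, 34, 38, 39, 35, 91, 211, 94, 214, 209, 89, 212, 92, 188, 184, 53, 49, 54, 50, 191, 187, 79, 199, 198, 78, 197, 77, 76, 196, 140, 216, 201, 100, 113, 70, 83, 254, 239, 238, 251, 86, 71, 116, 101, 200, 221, 81, 68, 233, 248, 203, 218, 119, 98, 99, 114, 223, 202, 253, 232, 69, 84, 162, 29, 181, 151, 58, 47, 43, 62, 147, 177, 25, 166, 42, 149, 61, 31, 178, 167, 163, 182, 27, 57, 145, 46]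

/-- Each unit vector as a sum of two classes. -/
def stdPairs : List (ℕ × ℕ) :=
  [(0, 1), (0, 3), (0, 63), (7, 86), (0, 15), (0, 31), (0, 78), (8, 86)]

/-- The points outside the octad determine a permutation. -/
def outDer : List (ℕ × List ℕ) :=
  [(0, [9347075, 1302533]), (2, [1302533]), (4, [6053905]), (5, [11952160, 3719203]), (6, [15515712, 6447171]), (10, [7767041]), (11, [7145475]), (23, [])]

/-- Twice an automorphism moving the fixed vector. -/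
def matM : List (List (ℕ × ℤ)) :=
  [[(10, 2)],
   [(19, -2)],
   [(11, -2)],
   [(13, 2)],
   [(4, -2)],
   [(0, 2)],
   [(23, -2)],
   [(20, 2)],
   [(16, -2)],
   [(17, -2)],
   [(6, -2)],
   [(5, 2)],
   [(8, 2)],
   [(15, 2)],
   [(14, 2)],
   [(21, -2)],
   [(9, -2)],
   [(1, 2)],
   [(18, -2)],
   [(12, -2)],
   [(22, -2)],
   [(7, 2)],
   [(3, 2)],
   [(2, 2)]]

/-- The permutations of the roots. -/
def permGen : List (List ℕ) :=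
  [[18, 14, 27, 56, 41, 53, 36, 20, 5, 25, 8, 43, 62, 34, 47, 59, 46, 50, 31, 4, 21, 9, 24, 40, 57, 37, 52, 15, 2, 30, 11, 10, 23, 3, 22, 49, 32, 60, 45, 29, 12, 16, 1, 38, 51, 39, 58, 54, 35, 55, 42, 13, 28, 0, 17, 33, 48, 44, 61, 26, 7, 19, 6, 63, 94, 76, 70, 74, 84, 88, 82, 64, 117, 118, 116, 108, 119, 111, 109, 110, 105, 106, 104, 96, 107, 99, 97, 98, 95, 77, 71, 75, 85, 89, 83, 65, 113, 101, 79, 93, 87, 91, 69, 73, 67, 81, 115, 103, 112, 100, 78, 92, 86, 90, 68, 72, 66, 80, 114, 102],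
   [0, 53, 54, 19, 20, 33, 34, 41, 42, 27, 28, 61, 62, 7, 8, 50, 49, 4, 3, 38, 37, 16, 15, 24, 23, 46, 45, 12, 11, 58, 57, 18, 17, 36, 35, 6, 5, 48, 47, 56, 55, 14, 13, 44, 43, 26, 25, 31, 32, 21, 22, 51, 52, 1, 2, 9, 10, 59, 60, 29, 30, 39, 40, 63, 75, 65, 71, 77, 66, 72, 78, 68, 67, 73, 79, 69, 74, 64, 70, 76, 83, 89, 95, 85, 90, 80, 86, 92, 91, 81, 87, 93, 82, 88, 94, 84, 108, 114, 115, 110, 116, 118, 109, 111, 117, 112, 113, 119, 96, 102, 103, 98, 104, 106, 97, 99, 105, 100, 101, 107],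
   [36, 107, 96, 37, 38, 114, 113, 79, 73, 44, 7, 64, 70, 46, 9, 0, 63, 119, 108, 2, 1, 102, 101, 86, 80, 43, 8, 89, 95, 45, 10, 51, 52, 112, 115, 17, 18, 109, 118, 65, 71, 60, 23, 72, 78, 26, 61, 16, 15, 100, 103, 54, 53, 97, 106, 88, 94, 59, 24, 81, 87, 25, 62, 35, 91, 29, 74, 13, 75, 27, 90, 12, 67, 39, 82, 56, 83, 42, 66, 58, 30, 68, 14, 85, 28, 84, 11, 69, 40, 92, 55, 77, 41, 76, 57, 93, 104, 4, 48, 34, 116, 50, 49, 111, 33, 47, 3, 99, 98, 31, 19, 5, 110, 21, 22, 117, 6, 20, 32, 105]]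

/-- The permutation of the product of two reflections. -/
def permPair : List ℕ :=
  [0, 1, 2, 3, 4, 5, 6, 8, 7, 10, 9, 12, 11, 14, 13, 15, 16, 17, 18, 19, 20, 21, 22, 24, 23, 26, 25, 28, 27, 30, 29, 31, 32, 33, 34, 35, 36, 37, 38, 40, 39, 42, 41, 44, 43, 46, 45, 47, 48, 49, 50, 51, 52, 53, 54, 56, 55, 58, 57, 60, 59, 62, 61, 63, 95, 94, 93, 92, 91, 90, 89, 88, 87, 86, 85, 84, 83, 82, 81, 80, 79, 78, 77, 76, 75, 74, 73, 72, 71, 70, 69, 68, 67, 66, 65, 64, 107, 106, 105, 104, 103, 102, 101, 100, 99, 98, 97, 96, 119, 118, 117, 116, 115, 114, 113, 112, 111, 110, 109, 108]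

/-- Pairs of roots with product of reflections in the image. -/
def edgeTab : List (ℕ × ℕ) :=
  [(0, 63), (18, 63), (36, 35), (31, 63), (3, 63), (108, 35), (32, 49), (5, 6), (18, 17), (10, 63), (51, 35), (56, 63), (19, 63), (37, 35), (96, 6), (98, 17), (23, 55), (17, 21), (52, 100), (53, 36), (33, 34), (3, 4), (108, 119), (8, 63), (28, 63), (7, 35), (13, 49), (51, 6), (54, 17), (48, 63), (94, 35), (4, 63), (38, 63), (2, 35), (60, 49), (109, 17), (113, 36), (79, 50), (115, 4), (48, 119), (40, 33), (86, 88), (50, 9), (119, 102), (28, 87), (52, 116), (53, 116), (0, 32), (1, 5), (97, 18), (3, 22), (56, 41), (37, 38), (112, 102), (5, 63), (42, 63), (2, 63), (11, 63), (95, 35), (20, 49), (79, 17), (7, 21), (51, 34), (2, 4), (35, 63), (32, 63), (94, 6), (41, 63), (20, 63), (38, 35), (45, 63), (47, 63), (27, 49), (54, 6), (7, 55), (30, 21), (87, 100), (31, 119), (90, 32), (106,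 5), (76, 22), (99, 20), (35, 102), (12, 3), (97, 95), (22, 27), (107, 109), (95, 69), (53, 6), (0, 66), (1, 105), (0, 17), (14, 53), (101, 31), (56, 24), (48, 16), (60, 45), (110, 49), (53, 63), (33, 63), (1, 63), (13, 63), (27, 63), (54, 63), (43, 63), (61, 63), (64, 35), (84, 6), (1, 100), (76, 4), (20, 9), (41, 16), (13, 22), (54, 20), (49, 63), (6, 63), (23, 63), (17, 63), (83, 36), (94, 34), (16, 63), (14, 63), (21, 63), (37, 63), (47, 6), (39, 63), (26, 63), (15, 55), (17, 36), (20, 33), (57, 16), (98, 87), (18, 107), (55, 52), (115, 53), (74, 15), (34, 1), (49, 69), (6, 109), (70, 37), (114, 84), (24, 15), (15, 12), (99, 31), (93, 27), (0, 36), (0, 71), (53, 112), (36, 119), (9, 97), (118, 18), (48, 57), (15, 63), (30, 26), (78, 55), (36, 63), (34, 63), (7, 63), (12, 63), (44, 63), (75, 6), (107, 36), (14, 87), (74, 20), (37, 27), (60, 63), (7, 15), (106, 1),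 (55, 63), (40, 63), (24, 63), (50, 63), (85, 5), (83, 22), (46, 63), (9, 63), (54, 36), (29, 63), (52, 63), (0, 88), (119, 18), (37, 36), (59, 63), (48, 69), (31, 103), (88, 53), (72, 0), (82, 0), (22, 14), (100, 27), (36, 100), (113, 31), (78, 48), (22, 28), (80, 0), (0, 70), (110, 18), (89, 15), (36, 18), (0, 68), (0, 86), (18, 105), (27, 114), (114, 31), (15, 59), (11, 52), (109, 33), (22, 63), (62, 63), (51, 63), (108, 36), (99, 18), (47, 98), (82, 1), (60, 15), (30, 63), (79, 0), (113, 53), (57, 63), (99, 53), (85, 15), (58, 63), (25, 63), (106, 18), (0, 91), (102, 31), (109, 18), (15, 27), (18, 111), (95, 0), (117, 18), (67, 0), (104, 18), (15, 8), (87, 15), (18, 116), (66, 15), (15, 11), (83, 0), (0, 78), (92, 0), (18, 108), (15, 68), (0, 81), (64, 53), (31, 112), (98, 18), (31, 115), (95, 53), (87, 0), (76, 0), (90, 0), (93, 0), (84, 0), (100, 31), (0, 89), (77,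 0), (0, 73), (69, 0), (74, 0), (0, 64), (96, 18), (85, 0), (0, 75), (94, 0), (65, 0)]

/-- Their derivation: generator and earlier pair. -/
def edgePar : List (ℕ × ℕ) :=
  [(0, 0), (2, 0), (0, 1), (1, 1), (2, 1), (0, 2), (1, 2), (2, 2), (0, 3), (2, 3), (0, 4), (1, 4), (2, 4), (1, 5), (2, 5), (0, 6), (1, 6), (2, 6), (0, 7), (1, 7), (1, 8), (2, 8), (0, 9), (1, 9), (2, 9), (0, 10), (1, 10), (2, 10), (0, 11), (2, 11), (0, 12), (1, 12), (2, 12), (0, 13), (2, 13), (0, 14), (0, 15), (1, 15), (2, 15), (0, 16), (2, 16), (0, 17), (2, 17), (0, 18), (1, 18), (2, 18), (0, 19), (1, 19), (2, 19), (0, 20), (0, 21), (2, 21), (0, 22), (0, 23), (1, 23), (0, 24), (1, 24), (2, 24), (0, 25), (2, 25), (1, 26), (1, 27), (1, 28), (0, 29), (1, 29), (1, 30), (0, 31), (1, 31), (2, 31), (0, 32), (1, 32), (0, 33), (1, 33), (0, 34), (1, 34), (2, 34), (2, 35), (0, 36), (1, 36), (1, 37), (1, 38), (0,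 39), (0, 40), (0, 41), (1, 42), (1, 43), (2, 44), (2, 45), (0, 46), (1, 46), (1, 47), (0, 48), (0, 49), (0, 50), (0, 51), (0, 52), (2, 53), (0, 54), (1, 54), (0, 55), (1, 55), (0, 56), (1, 56), (0, 57), (1, 57), (2, 57), (1, 58), (2, 59), (1, 60), (0, 61), (1, 61), (0, 62), (1, 63), (0, 64), (1, 64), (0, 65), (1, 65), (0, 66), (1, 66), (0, 67), (1, 67), (0, 68), (1, 68), (1, 69), (0, 70), (1, 70), (0, 72), (0, 73), (0, 74), (1, 75), (0, 76), (1, 77), (2, 78), (0, 79), (1, 80), (2, 81), (0, 82), (1, 82), (2, 83), (1, 84), (0, 85), (1, 85), (2, 86), (2, 87), (0, 88), (1, 89), (1, 90), (2, 91), (2, 92), (1, 93), (0, 94), (2, 95), (1, 96), (0, 97), (1, 99), (0, 101), (1, 101), (1, 102), (1, 104), (1, 106), (0, 107), (0, 108), (1, 109), (1, 110), (2, 111), (1, 112), (2, 113), (0, 114), (0, 116), (1, 116), (0, 117), (1, 118), (0, 119), (0, 120), (0, 122), (0, 124), (0, 125),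 (0, 126), (2, 127), (2, 128), (1, 129), (2, 130), (2, 131), (0, 132), (2, 133), (0, 134), (2, 135), (0, 136), (2, 137), (0, 138), (2, 138), (1, 139), (2, 140), (2, 141), (2, 142), (1, 143), (0, 144), (2, 145), (1, 146), (0, 147), (2, 148), (1, 149), (0, 150), (2, 151), (0, 153), (0, 154), (0, 156), (0, 158), (0, 159), (0, 160), (2, 161), (0, 162), (2, 163), (0, 164), (1, 165), (2, 166), (1, 167), (0, 170), (0, 172), (1, 173), (0, 174), (1, 174), (2, 176), (1, 179), (0, 180), (2, 181), (2, 183), (1, 184), (0, 185), (0, 186), (1, 186), (0, 187), (1, 188), (0, 189), (2, 190), (2, 192), (1, 193), (1, 194), (1, 195), (2, 197), (2, 198), (0, 202), (2, 204), (2, 205), (2, 206), (2, 210), (1, 212), (1, 213), (2, 214), (1, 216), (0, 217), (0, 219), (2, 220), (0, 226), (2, 227), (1, 231), (2, 233), (2, 234), (2, 236), (2, 237), (0, 238), (1, 238), (2, 242), (0, 244), (0, 248)]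

/-- The roots in the order of a tree. -/
def treePts : List ℕ :=
  [63, 0, 18, 31, 3, 10, 56, 19, 8, 28, 48, 4, 38, 5, 42, 2, 11, 35, 32, 41, 20, 45, 47, 53, 33, 1, 13, 27, 54, 43, 61, 49, 6, 23, 17, 16, 14, 21, 37, 39, 26, 15, 36, 34, 7, 12, 44, 60, 55, 40, 24, 50, 46, 9, 29, 52, 59, 22, 62, 51, 30, 57, 58, 25, 66, 71, 88, 72, 82, 80, 70, 68, 86, 79, 91, 95, 67, 83, 78, 92, 81, 87, 76, 90, 93, 84, 89, 77, 73, 69, 74, 64, 85, 75, 94, 65, 97, 107, 118, 119, 110, 105, 99, 106, 109, 111, 117, 104, 116, 108, 98, 96, 101, 103, 113, 114, 102, 112, 115, 100]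

/-- Its derivation: earlier position and pair. -/
def treePar : List (ℕ × ℕ) :=
  [(0, 0), (0, 1), (0, 3), (0, 4), (0, 9), (0, 11), (0, 12), (0, 23), (0, 24), (0, 29), (0, 31), (0, 32), (0, 54), (0, 55), (0, 56), (0, 57), (0, 64), (0, 65), (0, 67), (0, 68), (0, 70), (0, 71), (0, 98), (0, 99), (0, 100), (0, 101), (0, 102), (0, 103), (0, 104), (0, 105), (0, 114), (0, 115), (0, 116), (0, 117), (0, 120), (0, 121), (0, 122), (0, 123), (0, 125), (0, 126), (0, 152), (0, 155), (0, 156), (0, 157), (0, 158), (0, 159), (0, 165), (0, 168), (0, 169), (0, 170), (0, 171), (0, 174), (0, 175), (0, 177), (0, 178), (0, 182), (0, 207), (0, 208), (0, 209), (0, 215), (0, 218), (0, 221), (0, 222), (1, 89), (1, 146), (1, 179), (1, 186), (1, 187), (1, 194), (1, 195), (1, 199), (1, 200), (1, 216), (1, 224), (1, 229), (1, 231), (1, 238), (1, 239), (1, 240), (1, 243), (1, 249), (1, 250), (1, 251),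 (1, 252), (1, 253), (1, 255), (1, 256), (1, 257), (1, 258), (1, 259), (1, 260), (1, 262), (1, 263), (1, 264), (1, 265), (2, 49), (2, 132), (2, 150), (2, 180), (2, 196), (2, 201), (2, 211), (2, 223), (2, 226), (2, 228), (2, 230), (2, 232), (2, 235), (2, 241), (2, 246), (2, 261), (3, 93), (3, 184), (3, 191), (3, 203), (3, 225), (3, 245), (3, 247), (3, 254)]

end CfsgLib.Leech.CoOne
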