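import Cfsg.Agent.Lib.Leech.CoOne.Kernel
import Cfsg.Agent.Lib.Leech.CoTwo.Image
import Cfsg.Agent.Lib.Classical.QuadOmega

/-!
# The image is the commutator subgroup of the orthogonal group
-/

set_option autoImplicit false
set_option maxRecDepth 100000

namespace CfsgLib.Leech.CoOne

open Cfsg CfsgLib.Golay CfsgLib.Leech CfsgLib.Leech.CoTwo Matrix CfsgLib.Classical

theorem exists_genE {M : List (List (ℕ × ℤ))} {P : List ℕ} (h : genCheckE M P = true) :
    ∃ g : cent0, ∀ i : Fin 120, (imgE g i).val = P.getD i.val 0 := by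
  simp only [genCheckE, Bool.and_eq_true, List.all_eq_true, List.mem_range, decide_eq_true_eq,
    Bool.or_eq_true, beq_iff_eq] at h
  obtain ⟨⟨⟨hM, hN⟩, hblock⟩, hroot⟩ := h
  set g0 : Co0 := matAut M (trMat M) hM hN with hg0
  have hsmul : ∀ v : leechLattice, ((g0 • v : leechLattice) : GolayPt → ℤ) = applyMat M v :=
    coe_matAut_smul hM hN
  have hmem : g0 ∈ cent0 := by
    refine Subgroup.mem_centralizer_singleton_iff.2 (co_ext fun v => Subtype.ext ?_)
    rw [mul_smul, mul_smul, hsmul]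
    funext p
    have h2 := twice_even hM v.2 p
    rw [tAut, coe_signAut_smul, coe_signAut_smul, signFlip_apply, hsmul]
    have hrow : ∀ e ∈ M.getD (ptEquiv p).val [], (pt e.1 ∈ toSet outMask ↔ p ∈ toSet outMask) := by
      intro e he
      obtain ⟨h1, h3⟩ := hblock _ (ptEquiv p).isLt e he
      rw [mem_out, mem_out, pt_mem_toSet h1, mem_toSet, h3]
    unfold applyMat applyTwice at *
    by_cases hp : p ∈ toSet outMask
    · rw [if_pos hp, rowDot_congr _ (g := -fun j => (v : GolayPt → ℤ) (pt j)) fun e he => by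
        rw [signFlip_apply, if_pos ((hrow e he).2 hp), Pi.neg_apply], rowDot_neg]
      exact Int.neg_ediv_of_dvd h2
    · rw [if_neg hp, rowDot_congr _ (g := fun j => (v : GolayPt → ℤ) (pt j)) fun e he => by
        rw [signFlip_apply, if_neg fun hc => hp ((hrow e he).1 hc)]]
  refine ⟨⟨g0, hmem⟩, fun i => ?_⟩
  obtain ⟨hlt, hr⟩ := hroot i.val i.isLt
  rw [imgE_unique (j := ⟨P.getD i.val 0, hlt⟩) ?_]
  rcases hr with hr | hr
  · refine Or.inl (Subtype.ext ?_)
    show ((g0 • rootW i : leechLattice) : GolayPt → ℤ) = _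
    rw [hsmul, coe_rootW, applyMat_toVec, hr, coe_rootW]
  · refine Or.inr (Subtype.ext ?_)
    show ((g0 • rootW i : leechLattice) : GolayPt → ℤ) = _
    rw [hsmul, coe_rootW, applyMat_toVec, hr, toVec_negL, AddSubgroup.coe_neg, coe_rootW]

theorem Q8_cls_ne (i : Fin 120) : Q8 (cls i) ≠ 0 := by rw [Q8_cls]; exact one_ne_zero

/-- The reflection in the class of a root. -/
noncomputable def rfl8 (i : Fin 120) : qAut Q8 := qRefl Q8 (Q8_cls_ne i)

theorem rfl8_vecE (i : Fin 120) (x : ℕ) : (rfl8 i).1 (vecE x) = vecE (reflN (clsN i.val) x) := by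
  rw [rfl8, qRefl_apply, Q8_cls, inv_one, one_mul, cls, polar_vecE, reflN]
  cases polN x (clsN i.val)
  · simp [boolZ]
  · simp only [boolZ, if_true, one_smul, vecE_xor]
    rw [sub_eq_add_neg, show -vecE (clsN i.val) = vecE (clsN i.val) from
      funext fun k => ZMod.neg_eq_self_mod_two _]

theorem rfl8_conj (g : cent0) (i : Fin 120) : toO g * rfl8 i * (toO g)⁻¹ = rfl8 (imgE g i) := by
  have h : Q8 ((toO g).1 (cls i)) ≠ 0 := by rw [toO_cls]; exact Q8_cls_ne _
  rw [rfl8, qRefl_conj Q8 (toO g) (Q8_cls_ne i) h, rfl8]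
  congr 1
  exact toO_cls g i

theorem rfl8_sq (i : Fin 120) : rfl8 i * rfl8 i = 1 := qRefl_mul_self Q8 _

theorem qAut_ext_cls {g h : qAut Q8} (H : ∀ i, g.1 (cls i) = h.1 (cls i)) : g = h :=
  qAut_ext fun v => LinearMap.congr_fun (lin_ext (A := g.1.toLinearMap) (B := h.1.toLinearMap) H) v

theorem pair_mem : rfl8 0 * rfl8 63 ∈ toO.range := by
  obtain ⟨g, hg⟩ := exists_genE genPair_ok
  refine ⟨g, qAut_ext_cls fun i => ?_⟩
  rw [qAut_mul_apply, toO_cls]
  conv_rhs => rw [cls, rfl8_vecE, rfl8_vecE]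
  rw [cls, hg i, pair_refl _ i.isLt]
  rfl

theorem conj_pair {g : cent0} {a b : Fin 120} (h : rfl8 a * rfl8 b ∈ toO.range) :
    rfl8 (imgE g a) * rfl8 (imgE g b) ∈ toO.range := by
  have e : rfl8 (imgE g a) * rfl8 (imgE g b) = toO g * (rfl8 a * rfl8 b) * (toO g)⁻¹ := by
    rw [← rfl8_conj, ← rfl8_conj]; group
  rw [e]
  exact mul_mem (mul_mem ⟨g, rfl⟩ h) (inv_mem ⟨g, rfl⟩)

/-- The condition on a pair of numbers. -/
def PairMem (p : ℕ × ℕ) : Prop :=
  ∃ a b : Fin 120, p = (a.val, b.val) ∧ rfl8 a * rfl8 b ∈ toO.range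

theorem edge_mem : ∀ k < edgeTab.length, PairMem (edgeTab.getD k (0, 0)) := by
  obtain ⟨h0, hlen, hstep⟩ := edge_ok
  intro k
  induction k using Nat.strong_induction_on with
  | _ k ih =>
    intro hk
    cases k with
    | zero => exact ⟨0, 63, h0, pair_mem⟩
    | succ m =>
      have hm : m < edgePar.length := by omega
      obtain ⟨hj, hgen, e⟩ := hstep m hm
      obtain ⟨a, b, eab, hmem⟩ := ih _ (Nat.lt_succ_of_le hj) (by omega)
      obtain ⟨g, hg⟩ : ∃ g : cent0, ∀ i : Fin 120, (imgE g i).val =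
          (permGen.getD (edgePar.getD m (0, 0)).1 []).getD i.val 0 := by
        rcases (by omega : (edgePar.getD m (0, 0)).1 = 0 ∨ (edgePar.getD m (0, 0)).1 = 1 ∨
          (edgePar.getD m (0, 0)).1 = 2) with h | h | h <;> rw [h]
        exacts [exists_genE genA_ok, exists_genE genB_ok, exists_genE genC_ok]
      refine ⟨imgE g a, imgE g b, ?_, conj_pair hmem⟩
      rw [e, eab, hg a, hg b]

theorem refl_root_mem (i : Fin 120) : rfl8 i * rfl8 63 ∈ toO.range := by
  obtain ⟨h0, hlen, -, hcov, hstep⟩ := tree_ok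
  suffices key : ∀ k < 120, ∀ i : Fin 120, treePts.getD k 0 = i.val → rfl8 i * rfl8 63 ∈ toO.range by
    obtain ⟨k, hk, e⟩ := List.getElem_of_mem (List.contains_iff_mem.1 (hcov i.val i.isLt))
    exact key k (hlen ▸ hk) i (by rw [List.getD_eq_getElem _ _ hk, e])
  intro k
  induction k using Nat.strong_induction_on with
  | _ k ih =>
    intro hk i hi
    cases k with
    | zero =>
      have : i = 63 := Fin.ext (by rw [← hi, h0]; rfl)
      rw [this, rfl8_sq]
      exact one_mem _
    | succ m =>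
      obtain ⟨hj, hedge, hor⟩ := hstep m (by omega)
      obtain ⟨a, b, eab, hmem⟩ := edge_mem _ hedge
      rcases hor with e | e <;> rw [eab, Prod.mk.injEq, hi] at e <;> obtain ⟨e1, e2⟩ := e
      · have h := ih _ (Nat.lt_succ_of_le hj) (by omega) b e2.symm
        have ha : a = i := Fin.ext e1
        subst ha
        have := mul_mem hmem h
        rwa [mul_assoc, ← mul_assoc (rfl8 b), rfl8_sq, one_mul] at this
      · have h := ih _ (Nat.lt_succ_of_le hj) (by omega) a e1.symm
        have hb : b = i := Fin.ext e2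
        subst hb
        have := mul_mem (inv_mem hmem) h
        rwa [_root_.mul_inv_rev, show (rfl8 b)⁻¹ = rfl8 b from qRefl_inv Q8 _,
          show (rfl8 a)⁻¹ = rfl8 a from qRefl_inv Q8 _, mul_assoc, ← mul_assoc (rfl8 a), rfl8_sq,
          one_mul] at this

theorem rfl8_not_mem : rfl8 63 ∉ toO.range := by
  rintro ⟨g, hg⟩
  have himg : ∀ i, cls (imgE g i) = (rfl8 63).1 (cls i) := fun i => by rw [← toO_cls, hg]
  have hfix : ∀ i : Fin 120, polN (clsN i.val) (clsN 63) = false → imgE g i = i := fun i hi => by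
    refine cls_injective ?_
    rw [himg]
    show (rfl8 63).1 (vecE (clsN i.val)) = _
    rw [rfl8_vecE, reflN]
    show vecE (if polN (clsN i.val) (clsN 63) then _ else _) = _
    rw [if_neg (by rw [hi]; simp)]
    rfl
  have hall := not_reflection (g := g) (fun i => hfix _ (low_perp i)) (hfix _ u_perp)
  obtain ⟨i, hi⟩ := moved
  refine hi (vecE_injOn _ ?_ _ (cls_ok.2.2.1 _ i.isLt).1 ?_)
  · exact reflN_lt i
  · have h := himg i
    rw [hall i, show (rfl8 63).1 (cls i) = vecE (reflN (clsN 63) (clsN i.val)) from rfl8_vecE 63 _] at h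
    exact h.symm
where
  low_perp : ∀ i : Fin 63, polN (clsN (lowRoot i).val) (clsN 63) = false := by decide +kernel
  u_perp : polN (clsN (63 : Fin 120).val) (clsN 63) = false := by decide +kernel
  moved : ∃ i : Fin 120, reflN (clsN 63) (clsN i.val) ≠ clsN i.val := by decide +kernel
  reflN_lt : ∀ i : Fin 120, reflN (clsN 63) (clsN i.val) < 256 := by decide +kernel

theorem range_or (g : qAut Q8) : g ∈ toO.range ∨ rfl8 63 * g ∈ toO.range := by
  have htop := reflGroup_eq_top Q8 (polarNondeg_qPlus 4) (Or.inr (by simp))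
  have hg : g ∈ reflGroup Q8 := htop ▸ Subgroup.mem_top g
  have hgen : ∀ x, x ∈ {g | ∃ (v : Fin 4 ⊕ Fin 4 → ZMod 2) (hv : Q8 v ≠ 0), g = qRefl Q8 hv} →
      ∀ y, (y ∈ toO.range ∨ rfl8 63 * y ∈ toO.range) →
        (x * y ∈ toO.range ∨ rfl8 63 * (x * y) ∈ toO.range) := by
    rintro _ ⟨v, hv, rfl⟩ y hy
    obtain ⟨i, rfl⟩ := exists_cls hv
    have hi : qRefl Q8 hv = rfl8 i := rfl
    rw [hi]
    have h63i : rfl8 63 * rfl8 i ∈ toO.range := by
      have := inv_mem (refl_root_mem i)
      rwa [_root_.mul_inv_rev, show (rfl8 63)⁻¹ = rfl8 63 from qRefl_inv Q8 _,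
        show (rfl8 i)⁻¹ = rfl8 i from qRefl_inv Q8 _] at this
    rcases hy with hy | hy
    · refine Or.inr ?_
      rw [← mul_assoc]
      exact mul_mem h63i hy
    · refine Or.inl ?_
      have := mul_mem (refl_root_mem i) hy
      rwa [mul_assoc, ← mul_assoc (rfl8 63), rfl8_sq, one_mul] at this
  induction hg using Subgroup.closure_induction_left with
  | one => exact Or.inl (one_mem _)
  | mul_left x hx y _ hy => exact hgen x hx y hy
  | inv_mul_cancel x hx y _ hy =>
    obtain ⟨v, hv, rfl⟩ := hx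
    rw [qRefl_inv]
    exact hgen _ ⟨v, hv, rfl⟩ y hy

theorem range_eq : toO.range = commutator (qAut Q8) := by
  haveI : Finite (qAut Q8) := finite_qAut Q8
  have hidx : toO.range.index = 2 := by
    refine Subgroup.index_eq_two_iff.2 ⟨rfl8 63, fun b => ?_⟩
    have hinv : ∀ y : qAut Q8, y⁻¹ ∈ toO.range ↔ y ∈ toO.range := fun y => inv_mem_iff
    have h1 : b * rfl8 63 ∈ toO.range ↔ rfl8 63 * b⁻¹ ∈ toO.range := by
      rw [← hinv, _root_.mul_inv_rev, show (rfl8 63)⁻¹ = rfl8 63 from qRefl_inv Q8 _]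
    rcases range_or b⁻¹ with h | h
    · refine Or.inr ⟨(hinv b).1 h, fun h' => rfl8_not_mem ?_⟩
      have := mul_mem ((h1.1 h')) (inv_mem h)
      rwa [inv_inv, inv_mul_cancel_right] at this
    · refine Or.inl ⟨h1.2 h, fun h' => rfl8_not_mem ?_⟩
      have := mul_mem h h'
      rwa [inv_mul_cancel_right] at this
  haveI := Subgroup.normal_of_index_eq_two hidx
  have hle : commutator (qAut Q8) ≤ toO.range := by
    have hcard : Nat.card (qAut Q8 ⧸ toO.range) = 2 := hidx
    have : Fact (Nat.Prime 2) := ⟨Nat.prime_two⟩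
    haveI : IsCyclic (qAut Q8 ⧸ toO.range) := isCyclic_of_prime_card hcard
    exact Subgroup.Normal.quotient_commutative_iff_commutator_le.1 IsCyclic.isMulCommutative
  have hc2 := index_commutator_two Q8 (polarNondeg_qPlus 4) (by simp) (Or.inr (by simp))
  refine (Subgroup.eq_of_le_of_card_ge hle ?_).symm
  have e1 := (commutator (qAut Q8)).card_mul_index
  have e2 := toO.range.card_mul_index
  rw [hidx] at e2
  rw [hc2] at e1
  omega

end CfsgLib.Leech.CoOne
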