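import Cfsg.Agent.Lib.Leech.CoOne.Action
import Cfsg.Agent.Lib.Leech.CoTwo.Kernel

/-!
# The kernel of the action modulo two and the centraliser of the kernel
-/

set_option autoImplicit false
set_option maxRecDepth 100000

namespace CfsgLib.Leech.CoOne

open Cfsg CfsgLib.Golay CfsgLib.Leech CfsgLib.Leech.CoTwo Matrix

open scoped Pointwise symmDiff

/-- A root orthogonal to the fixed vector among all roots. -/
def lowRoot (i : Fin 63) : Fin 120 := ⟨i.val, by omega⟩

theorem rootW_low (i : Fin 63) : rootW (lowRoot i) = rootV i := by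
  refine Subtype.ext ?_
  rw [coe_rootW, coe_rootV]
  exact congrArg toVec (eight_prefix.1 _ i.isLt)

theorem rootW_u : rootW 63 = Spor.leechU := by
  refine Subtype.ext ?_
  rw [coe_rootW]
  show toVec (rootE 63) = _
  rw [eight_prefix.2]
  exact funext fun p => uList_eq p

theorem neg_smul' (v : leechLattice) : negAut • v = -v := Subtype.ext (coe_negAut_smul v)

theorem negAut_comm (g : Co0) : negAut * g = g * negAut :=
  co_ext fun v => by rw [mul_smul, mul_smul, neg_smul', neg_smul', smul_neg']

theorem negAut_sq : negAut * negAut = 1 :=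
  co_ext fun v => by rw [mul_smul, neg_smul', neg_smul', neg_neg, one_smul]

theorem negAut_mem_cent0 : negAut ∈ cent0 :=
  Subgroup.mem_centralizer_singleton_iff.2 (negAut_comm tAut)

theorem smul_axis_of_fix {g : Co0} (h : ∀ i, g • rootW i = rootW i) :
    ∀ q ∈ octPts, g • axisPt q = axisPt q := by
  intro q hq
  have hu : g • Spor.leechU = Spor.leechU := by rw [← rootW_u, h]
  have hs : ∀ i, g • rootV i = rootV i := fun i => by rw [← rootW_low, h]
  rcases axis_expr hq with ⟨-, a, e | e⟩ | ⟨-, -, a, b, e | e | e⟩ <;>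
    rw [e] <;> simp only [smul_add', smul_sub', smul_neg', hu, hs]

/-- An element fixing the frame vectors of the octad is one of the listed ones. -/
theorem exists_kEl_of_fix {g : Co0} (hfix : ∀ q ∈ octPts, g • axisPt q = axisPt q) :
    ∃ a b, g = kEl a b := by
  have hq23 : 23 ∈ octPts := by decide +kernel
  have hb : ((g • baseVec : leechLattice) : GolayPt → ℤ) = Pi.single none 8 := by
    rw [← axisPt_23, hfix _ hq23, axisPt_23, baseVec, coe_axisVec]
  obtain ⟨σ, hσ, c, hc, e⟩ := exists_monoAut_of_mem (crossStab_of_baseVec (Or.inl rfl) hb)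
  have hpt : ∀ q ∈ octPts, σ (pt q) = pt q ∧ pt q ∉ c := by
    intro q hq
    have h := congrArg (fun v : leechLattice => (v : GolayPt → ℤ)) (hfix q hq)
    rw [e, axisPt] at h
    obtain ⟨h1, h2⟩ := mono_axis (h.trans (coe_axisVec _ _ _))
    rw [h1] at h2
    exact ⟨h1, fun hc => by rw [if_pos hc] at h2; norm_num at h2⟩
  obtain ⟨a, rfl⟩ := exists_trP hσ (fun q hq => (hpt q (six_facts q hq).1).1)
    fun q hq => ⟨q, hq, (hpt q hq).1⟩
  obtain ⟨n, hn, rfl⟩ := mem_supports.1 hc
  have hd : n &&& octMask = 0 := Nat.eq_of_testBit_eq fun i => by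
    rw [Nat.testBit_land, Nat.zero_testBit]
    rcases Nat.lt_or_ge i 24 with hi | hi
    · by_cases ho : octMask.testBit i = true
      · have hio : i ∈ octPts := by
          rwa [octMask_ok.2.2.2.2.1 i hi, List.contains_iff_mem] at ho
        have h := (hpt i hio).2
        rw [pt_mem_toSet hi, Bool.not_eq_true] at h
        simp [h]
      · simp [ho]
    · rw [Nat.testBit_lt_two_pow (lt_of_lt_of_le (golayList_lt n hn)
        (Nat.pow_le_pow_right (by norm_num) hi))]
      rfl
  have hcon := List.all_eq_true.1 disj_ok.2.2.2 n hn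
  simp only [hd, beq_self_eq_true, Bool.not_true, Bool.false_or, List.contains_iff_mem] at hcon
  obtain ⟨b, hb', eb⟩ := List.getElem_of_mem hcon
  refine ⟨a, ⟨b, disj_ok.1 ▸ hb'⟩, ?_⟩
  rw [e]
  exact monoAut_congr rfl (by rw [dc, List.getD_eq_getElem _ _ hb', eb])

theorem kEl_mem0 (a : Fin 16) (b : Fin 32) : kEl a b ∈ cent0 := (kEl_mem a b).2

theorem kEl_fix (a : Fin 16) (b : Fin 32) (i : Fin 120) : kEl a b • rootW i = rootW i :=
  kEl_smul (rootW_supp i) a b

/-- The sign is the same on all roots. -/
theorem sign_uniform {g : cent0} (hg : ∀ i, imgE g i = i) :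
    (∀ i, (g : Co0) • rootW i = rootW i) ∨ ∀ i, (g : Co0) • rootW i = -rootW i := by
  have hsig : ∀ i, (g : Co0) • rootW i = rootW i ∨ (g : Co0) • rootW i = -rootW i := fun i => by
    simpa [hg i] using imgE_spec g i
  have key : ∀ i k : Fin 120, dotL (rootE i.val) (rootE k.val) ≠ 0 →
      ((g : Co0) • rootW i = rootW i ↔ (g : Co0) • rootW k = rootW k) := by
    intro i k hne
    have hd : dotInt (rootW i : GolayPt → ℤ) (rootW k : GolayPt → ℤ) ≠ 0 := by
      rw [coe_rootW, coe_rootW, dotInt_toVec]; exact hne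
    have h := dot_smul_co (g : Co0) (rootW i) (rootW k)
    constructor
    · intro e
      refine (hsig k).resolve_right fun e' => hd ?_
      rw [e, e'] at h
      simp only [AddSubgroup.coe_neg, dotInt, Pi.neg_apply, mul_neg, Finset.sum_neg_distrib] at h ⊢
      linarith
    · intro e
      refine (hsig i).resolve_right fun e' => hd ?_
      rw [e, e'] at h
      simp only [AddSubgroup.coe_neg, dotInt, Pi.neg_apply, neg_mul, Finset.sum_neg_distrib] at h ⊢
      linarith
  have hconn := eight_conn
  simp only [List.all_eq_true, List.any_eq_true, List.mem_range, Bool.and_eq_true,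
    Bool.not_eq_true', beq_eq_false_iff_ne] at hconn
  have hall : ∀ i : Fin 120, (g : Co0) • rootW i = rootW i ↔ (g : Co0) • rootW 0 = rootW 0 := by
    intro i
    obtain ⟨k, hk, h1, h2⟩ := hconn i.val i.isLt
    exact (key i ⟨k, hk⟩ h1).trans (key ⟨k, hk⟩ 0 h2)
  by_cases h : (g : Co0) • rootW 0 = rootW 0
  · exact Or.inl fun i => (hall i).2 h
  · exact Or.inr fun i => (hsig i).resolve_left fun e => h ((hall i).1 e)

/-- The kernel of the action. -/
theorem mem_ker_toO {g : cent0} :
    g ∈ toO.ker ↔ ∃ a b, (g : Co0) = kEl a b ∨ (g : Co0) = negAut * kEl a b := by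
  rw [MonoidHom.mem_ker, toO_eq_one_iff]
  constructor
  · intro hg
    rcases sign_uniform hg with h | h
    · obtain ⟨a, b, e⟩ := exists_kEl_of_fix (smul_axis_of_fix h)
      exact ⟨a, b, Or.inl e⟩
    · obtain ⟨a, b, e⟩ := exists_kEl_of_fix (g := negAut * (g : Co0))
        (smul_axis_of_fix fun i => by rw [mul_smul, h, neg_smul', neg_neg])
      exact ⟨a, b, Or.inr (by rw [← e, ← mul_assoc, negAut_sq, one_mul])⟩
  · rintro ⟨a, b, e | e⟩ i <;> refine imgE_unique ?_
    · exact Or.inl (by rw [e, kEl_fix])
    · exact Or.inr (by rw [e, mul_smul, kEl_fix, neg_smul'])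

/-- No element acts as the reflection in the class of the fixed vector. -/
theorem not_reflection {g : cent0}
    (hlow : ∀ i : Fin 63, imgE g (lowRoot i) = lowRoot i) (hu : imgE g 63 = 63) : ∀ i, imgE g i = i := by
  intro i
  have hsig : ∀ i : Fin 63, (g : Co0) • rootV i = rootV i ∨ (g : Co0) • rootV i = -rootV i := fun i => by
    rw [← rootW_low]; simpa [hlow i] using imgE_spec g (lowRoot i)
  have husig : (g : Co0) • Spor.leechU = Spor.leechU ∨ (g : Co0) • Spor.leechU = -Spor.leechU := by
    rw [← rootW_u]; simpa [hu] using imgE_spec g 63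
  -- the sign is the same on the roots orthogonal to the fixed vector
  have key : ∀ i k : Fin 63, dotL (rootL i.val) (rootL k.val) ≠ 0 →
      ((g : Co0) • rootV i = rootV i ↔ (g : Co0) • rootV k = rootV k) := by
    intro i k hne
    have hd : dotInt (rootV i : GolayPt → ℤ) (rootV k : GolayPt → ℤ) ≠ 0 := by
      rw [coe_rootV, coe_rootV, dotInt_toVec]; exact hne
    have h := dot_smul_co (g : Co0) (rootV i) (rootV k)
    constructor
    · intro e
      refine (hsig k).resolve_right fun e' => hd ?_
      rw [e, e'] at h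
      simp only [AddSubgroup.coe_neg, dotInt, Pi.neg_apply, mul_neg, Finset.sum_neg_distrib] at h ⊢
      linarith
    · intro e
      refine (hsig i).resolve_right fun e' => hd ?_
      rw [e, e'] at h
      simp only [AddSubgroup.coe_neg, dotInt, Pi.neg_apply, neg_mul, Finset.sum_neg_distrib] at h ⊢
      linarith
  have hconn := root_conn
  simp only [List.all_eq_true, List.any_eq_true, List.mem_range, Bool.and_eq_true,
    Bool.not_eq_true', beq_eq_false_iff_ne] at hconn
  have hall : ∀ i : Fin 63, (g : Co0) • rootV i = rootV i ↔ (g : Co0) • rootV 0 = rootV 0 := by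
    intro i
    obtain ⟨k, hk, h1, h2⟩ := hconn i.val i.isLt
    exact (key i ⟨k, hk⟩ h1).trans (key ⟨k, hk⟩ 0 h2)
  -- after a change of sign the roots are fixed
  obtain ⟨h, hh, hs, hh0⟩ : ∃ h : Co0, (h = (g : Co0) ∨ h = negAut * (g : Co0)) ∧
      (∀ i, h • rootV i = rootV i) ∧ h ∈ cent0 := by
    by_cases h : (g : Co0) • rootV 0 = rootV 0
    · exact ⟨g, Or.inl rfl, fun i => (hall i).2 h, g.2⟩
    · refine ⟨negAut * g, Or.inr rfl, fun i => ?_, mul_mem negAut_mem_cent0 g.2⟩
      rw [mul_smul, (hsig i).resolve_left fun e => h ((hall i).1 e), neg_smul', neg_neg]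
  have hucase : h • Spor.leechU = Spor.leechU ∨ h • Spor.leechU = -Spor.leechU := by
    rcases hh with rfl | rfl
    · exact husig
    · rcases husig with e | e <;> rw [mul_smul, e, neg_smul'] <;> simp
  have fixed : ∀ j, h • rootW j = rootW j := by
    rcases hucase with hu' | hu'
    · have haxis : ∀ q ∈ octPts, h • axisPt q = axisPt q := by
        intro q hq
        rcases axis_expr hq with ⟨-, a, e | e⟩ | ⟨-, -, a, b, e | e | e⟩ <;>
          rw [e] <;> simp only [smul_add', smul_sub', smul_neg', hu', hs]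
      obtain ⟨a, b, e⟩ := exists_kEl_of_fix haxis
      exact fun j => by rw [e, kEl_fix]
    · exfalso
      have hsame : ∀ q ∈ octPts, q ≠ 23 → q ≠ 0 → h • axisPt q = axisPt q := by
        intro q hq h1 h2
        rcases axis_expr hq with ⟨h', -⟩ | ⟨-, -, a, b, e | e | e⟩
        · rcases h' with h' | h' <;> contradiction
        all_goals rw [e]; simp only [smul_add', smul_sub', smul_neg', hs]
      have hpair : h • axisPt 23 = -axisPt 0 := by
        have h23 : 23 ∈ octPts := by decide +kernel
        have h0 : axisPt 0 = Spor.leechU + Spor.leechU - axisPt 23 := by rw [← leechU_two]; abel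
        rcases axis_expr h23 with ⟨-, a, e | e⟩ | ⟨h', -⟩
        · rw [h0, e]; simp only [smul_add', hu', hs]; abel
        · rw [h0, e]; simp only [smul_sub', hu', hs]; abel
        · exact absurd rfl h'
      have hb : ((h • baseVec : leechLattice) : GolayPt → ℤ) = Pi.single (pt 0) (-8) := by
        rw [← axisPt_23, hpair, axisPt, AddSubgroup.coe_neg, coe_axisVec, ← Pi.single_neg]
      obtain ⟨σ, hσ, c, hc, e⟩ := exists_monoAut_of_mem (crossStab_of_baseVec (Or.inr rfl) hb)
      have hsix : ∀ q ∈ [2, 4, 5, 6, 10, 11], σ (pt q) = pt q := by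
        intro q hq
        obtain ⟨h1, h2, h3⟩ := six_facts q hq
        have h' := congrArg (fun v : leechLattice => (v : GolayPt → ℤ)) (hsame q h1 h2 h3)
        rw [e, axisPt] at h'
        exact (mono_axis (h'.trans (coe_axisVec _ _ _))).1
      have h23 : σ (pt 23) = pt 0 := by
        rw [pt23]
        rw [e, baseVec] at hb
        exact (mono_axis hb).1
      have h0 : σ (pt 0) = pt 23 := by
        have hg0 : h • axisPt 0 = -axisPt 23 := by
          have h' : axisPt 0 = Spor.leechU + Spor.leechU - axisPt 23 := by rw [← leechU_two]; abel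
          conv_lhs => rw [h']
          rw [smul_sub', smul_add', hu', hpair, h']
          abel
        have h' := congrArg (fun v : leechLattice => (v : GolayPt → ℤ)) hg0
        rw [e, axisPt] at h'
        refine (mono_axis (r := pt 23) (s := -8) (h'.trans ?_)).1
        simp only [AddSubgroup.coe_neg, axisPt, coe_axisVec, Pi.single_neg]
      obtain ⟨a, rfl⟩ := exists_trP hσ hsix fun q hq => by
        rw [der_ok.2] at hq
        rcases List.mem_cons.1 hq with rfl | hq
        · exact ⟨0, by decide +kernel, h0⟩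
        rcases List.mem_cons.1 hq with rfl | hq
        · exact ⟨23, by decide +kernel, h23⟩
        exact ⟨q, (six_facts q hq).1, hsix q hq⟩
      rw [trP_fix a (mem_oct_iff.2 (by rw [ptEquiv_pt (by norm_num)]; decide +kernel))] at h23
      exact absurd h23 (by decide +kernel)
  apply imgE_unique
  rcases hh with rfl | rfl
  · exact Or.inl (fixed i)
  · refine Or.inr ?_
    have := congrArg (negAut • ·) (fixed i)
    simpa [mul_smul, neg_smul'] using this

theorem axis_supp {q : ℕ} {i : GolayPt} (h : i ≠ pt q) : (axisPt q : GolayPt → ℤ) i = 0 := by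
  rw [axisPt, coe_axisVec, Pi.single_eq_of_ne h]

/-- An element centralising the kernel is the sign change up to sign. -/
theorem centralizer_kEl {g : Co0} (hg : ∀ a b, g * kEl a b = kEl a b * g) :
    g = 1 ∨ g = tAut ∨ g = negAut ∨ g = negAut * tAut := by
  obtain ⟨b0, hb0⟩ := exists_dc_zero
  have haxis : ∀ q < 24, octMask.testBit q = false → ∃ t, (t = 8 ∨ t = -8) ∧
      ((g • axisPt q : leechLattice) : GolayPt → ℤ) = Pi.single (pt q) t := by
    intro q hq ho
    set w : GolayPt → ℤ := ((g • axisPt q : leechLattice) : GolayPt → ℤ) with hw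
    have hflip : ∀ b : Fin 32, ∀ i, (if i ∈ toSet (dc b.val) then -w i else w i) =
        if (dc b.val).testBit q then -w i else w i := by
      intro b i
      have hk : kEl 0 b • axisPt q = if (dc b.val).testBit q then -axisPt q else axisPt q := by
        refine Subtype.ext ?_
        have hq' : pt q ∈ toSet (dc b.val) ↔ (dc b.val).testBit q = true := pt_mem_toSet hq
        rw [kEl, coe_monoAut_smul, axisPt, coe_axisVec, signedPerm_single, trP_zero, Equiv.Perm.one_apply]
        by_cases hc : (dc b.val).testBit q = true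
        · rw [if_pos hc, if_pos (hq'.2 hc), AddSubgroup.coe_neg, coe_axisVec, Pi.single_neg]
        · rw [if_neg hc, if_neg (mt hq'.1 hc), coe_axisVec]
      have h := congrArg (fun v : leechLattice => (v : GolayPt → ℤ) i)
        (show kEl 0 b • g • axisPt q = g • kEl 0 b • axisPt q by rw [← mul_smul, ← hg, mul_smul])
      rw [hk] at h
      have hl : ((kEl 0 b • g • axisPt q : leechLattice) : GolayPt → ℤ) i =
          if i ∈ toSet (dc b.val) then -w i else w i := by
        rw [kEl, coe_monoAut_smul, signedPerm, trP_zero]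
        rfl
      rw [← hl, h]
      split
      · rw [smul_neg']; rfl
      · rfl
    have hz : ∀ i, i ≠ pt q → w i = 0 := by
      intro i hi
      rcases dc_sep q hq ho _ (ptEquiv i).isLt with e | ⟨b, hb, hne⟩
      · exact absurd (by rw [← e, pt_ptEquiv]) hi
      · have h := hflip ⟨b, hb⟩ i
        simp only [mem_toSet] at h
        revert h hne
        cases (dc b).testBit (ptEquiv i).val <;> cases (dc b).testBit q <;> simp <;> omega
    have hsingle : w = Pi.single (pt q) (w (pt q)) := by
      funext i
      rcases eq_or_ne i (pt q) with rfl | hi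
      · rw [Pi.single_eq_same]
      · rw [Pi.single_eq_of_ne hi, hz i hi]
    have hn := sqNorm_smul_co g (axisPt q)
    rw [← hw, hsingle, sqNorm_single, axisPt, coe_axisVec, sqNorm_single] at hn
    exact ⟨_, sq_eq_sq_iff_eq_or_eq_neg.1 hn, hsingle⟩
  -- hence the standard cross is fixed
  obtain ⟨q0, hq0, ho0⟩ : ∃ q < 24, octMask.testBit q = false :=
    ⟨outPt, octMask_ok.2.2.2.2.2.2.2.2.2, octMask_ok.2.2.2.2.2.2.2.2.1⟩
  have hcross : g ∈ crossStab := by
    obtain ⟨t, ht, e⟩ := haxis q0 hq0 ho0
    have h1 : axisPt q0 ∈ leechEven.cls8 baseVec :=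
      stdSet_eq_cls8 ▸ mem_stdSet.2 ⟨pt q0, 8, Or.inl rfl, coe_axisVec _ _ _⟩
    have h2 : g • axisPt q0 ∈ leechEven.cls8 baseVec :=
      stdSet_eq_cls8 ▸ mem_stdSet.2 ⟨pt q0, t, ht, e⟩
    rw [crossStab, MulAction.mem_stabilizer_iff, stdSet_eq_cls8, ← cls8_eq h1, smul_cls8, cls8_eq h2,
      cls8_eq h1]
  obtain ⟨σ, hσ, c, hc, rfl⟩ := exists_monoAut_of_mem hcross
  have hσ1 : σ = 1 := by
    refine eq_one_of_fixCheck hσ outDer_ok fun p hp => ?_
    simp only [List.mem_filter, List.mem_range, Bool.not_eq_true'] at hp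
    obtain ⟨t, -, e⟩ := haxis _ hp.1 hp.2
    rw [axisPt, pt_ptEquiv] at e
    exact (mono_axis e).1
  subst hσ1
  obtain ⟨n, hn, rfl⟩ := mem_supports.1 hc
  have hinv : ∀ a < 16, imgMask (tr a) n = n := by
    intro a ha
    have h := hg ⟨a, ha⟩ b0
    rw [kEl, monoAut_mul, monoAut_mul] at h
    have hs := (monoAut_injective h).2
    have h0 : toSet (dc b0.val) = ∅ := by rw [hb0]; ext p; simp [mem_toSet]
    rw [h0, one_smul, trP, smul_toSet (trP_valid ⟨a, ha⟩)] at hs
    simp only [← Finset.bot_eq_empty, bot_symmDiff, symmDiff_bot] at hs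
    exact toSet_inj (imgMask_lt (trP_valid ⟨a, ha⟩) _) (golayList_lt n hn) hs.symm
  have hmem := List.all_eq_true.1 code_invariant n hn
  have hall : (List.range 16).all (fun a => imgMask (tr a) n == n) = true :=
    List.all_eq_true.2 fun a ha => beq_iff_eq.2 (hinv a (List.mem_range.1 ha))
  simp only [hall, Bool.not_true, Bool.false_or, List.contains_iff_mem, List.mem_cons,
    List.not_mem_nil, or_false] at hmem
  rcases hmem with rfl | rfl | rfl | rfl
  · refine Or.inl ?_
    rw [← monoAut_one]
    exact monoAut_congr rfl (by ext p; simp [mem_toSet])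
  · refine Or.inr (Or.inr (Or.inl ?_))
    refine co_ext fun v => Subtype.ext (funext fun i => ?_)
    have hfull : i ∈ toSet 16777215 := by revert i; decide +kernel
    rw [coe_monoAut_smul, coe_negAut_smul, Pi.neg_apply]
    simp [signedPerm, hfull, Equiv.Perm.one_def]
  · refine Or.inr (Or.inr (Or.inr ?_))
    refine co_ext fun v => Subtype.ext (funext fun i => ?_)
    rw [coe_monoAut_smul, mul_smul, coe_negAut_smul, Pi.neg_apply, tAut, coe_signAut_smul,
      signFlip_apply]
    by_cases hi : i ∈ toSet octMask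
    · simp [signedPerm, hi, mem_out.not.2 (not_not.2 hi), Equiv.Perm.one_def]
    · simp [signedPerm, hi, mem_out.2 hi, Equiv.Perm.one_def]
  · refine Or.inr (Or.inl ?_)
    rw [tAut_eq_mono]

end CfsgLib.Leech.CoOne
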