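import Cfsg.Agent.Lib.Leech.CoOne.Image
import Cfsg.Agent.Lib.Classical.QuadSiegel
import Cfsg.Agent.Lib.Classical.QuadPOmega
import Cfsg.Agent.Lib.Local.CharP
import Cfsg.Agent.Lib.Cores.Basic
import Cfsg.Agent.Lib.LargeExtra.SubExtra
import Cfsg.Prelude.Def_Spor_Conway

/-!
# The centraliser of an involution of the first Conway group with an extraspecial core
-/

set_option autoImplicit false
set_option maxRecDepth 100000

namespace CfsgLib.Leech.CoOne

open Cfsg CfsgLib.Golay CfsgLib.Leech CfsgLib.Leech.CoTwo Matrix CfsgLib.Classical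

open scoped Pointwise symmDiff

theorem negAut_ne : negAut ≠ (1 : Co0) := fun h => by
  have := congrFun (congrArg (fun g : Co0 => ((g • baseVec : leechLattice) : GolayPt → ℤ)) h) none
  simp [coe_negAut_smul, baseVec, coe_axisVec] at this

theorem negAut_central : negAut ∈ Subgroup.center Co0 :=
  Subgroup.mem_center_iff.2 fun g => (negAut_comm g).symm

theorem center_cases {z : Co0} (hz : z ∈ Subgroup.center Co0) : z = 1 ∨ z = negAut := by
  obtain ⟨a, b, hab, huniv⟩ := Nat.card_eq_two_iff.1 card_center_co0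
  have hmem : ∀ w : Subgroup.center Co0, w = a ∨ w = b := fun w => by
    have : w ∈ ({a, b} : Set (Subgroup.center Co0)) := huniv ▸ Set.mem_univ w
    simpa using this
  have hne : (⟨negAut, negAut_central⟩ : Subgroup.center Co0) ≠ 1 := fun h =>
    negAut_ne (congrArg Subtype.val h)
  suffices (⟨z, hz⟩ : Subgroup.center Co0) = 1 ∨ (⟨z, hz⟩ : Subgroup.center Co0) = ⟨negAut, negAut_central⟩ by
    rcases this with h | h
    · exact Or.inl (congrArg Subtype.val h)
    · exact Or.inr (congrArg Subtype.val h)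
  rcases hmem ⟨z, hz⟩ with h | h <;> rcases hmem 1 with h' | h' <;>
    rcases hmem ⟨negAut, negAut_central⟩ with h'' | h'' <;> simp_all

/-- The quotient map. -/
abbrev mkOne : Co0 →* Spor.Co1 := QuotientGroup.mk' _

theorem mkOne_eq {g h : Co0} : mkOne g = mkOne h ↔ g = h ∨ g = negAut * h := by
  constructor
  · intro e
    rcases center_cases (QuotientGroup.eq.1 e.symm) with k | k
    · exact Or.inl (inv_mul_eq_one.1 k).symm
    · exact Or.inr (by rw [negAut_comm, ← k, mul_inv_cancel_left])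
  · rintro (rfl | rfl)
    · rfl
    · rw [map_mul, show mkOne negAut = 1 from (QuotientGroup.eq_one_iff _).2 negAut_central, one_mul]

theorem root_ne_neg (i : Fin 120) : rootW i ≠ -rootW i := rootW_ne.2

theorem kEl_ne_neg (a a' : Fin 16) (b b' : Fin 32) : kEl a b ≠ negAut * kEl a' b' := fun e => by
  have h := congrArg (fun g : Co0 => g • rootW 0) e
  simp only [mul_smul, kEl_fix, neg_smul'] at h
  exact root_ne_neg 0 h

/-- The involution. -/
def zOne : Spor.Co1 := mkOne tAut

theorem zOne_ne_one : zOne ≠ 1 := fun h => by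
  obtain ⟨b, -, e⟩ := tAut_eq_kEl
  obtain ⟨b0, hb0⟩ := exists_dc_zero
  have h1 : kEl 0 b0 = 1 := by
    rw [kEl, ← monoAut_one]
    exact monoAut_congr trP_zero (by rw [hb0]; ext p; simp [mem_toSet])
  rcases mkOne_eq.1 (h.trans (map_one mkOne).symm) with k | k
  · exact tAut_ne_one k
  · rw [e, ← h1] at k
    exact kEl_ne_neg _ _ _ _ k

theorem orderOf_zOne : orderOf zOne = 2 := by
  rw [orderOf_eq_prime_iff]
  exact ⟨by rw [zOne, ← map_pow, pow_two, tAut_mul_self, map_one], zOne_ne_one⟩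

/-- The centraliser of the sign change maps to that of the involution. -/
def toCent : cent0 →* Subgroup.centralizer ({zOne} : Set Spor.Co1) :=
  (mkOne.comp cent0.subtype).codRestrict _ fun g => Subgroup.mem_centralizer_singleton_iff.2 (by
    show mkOne (g : Co0) * mkOne tAut = mkOne tAut * mkOne (g : Co0)
    rw [← map_mul, ← map_mul, Subgroup.mem_centralizer_singleton_iff.1 g.2])

theorem coe_toCent (g : cent0) :
    ((toCent g : Subgroup.centralizer ({zOne} : Set Spor.Co1)) : Spor.Co1) = mkOne (g : Co0) := rfl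

/-- The sign change is not conjugate to its negative. -/
theorem not_anticomm (g : Co0) : g * tAut ≠ negAut * (tAut * g) := by
  intro e
  set outs := (List.range 24).filter fun i => !octMask.testBit i with houts
  have hlen : outs.length = 16 := by decide +kernel
  have hnd : outs.Nodup := List.nodup_range.filter _
  have hmem : ∀ a : Fin 16, outs.getD a.val 0 < 24 ∧ octMask.testBit (outs.getD a.val 0) = false := by
    decide +kernel
  let P : Fin 16 → GolayPt := fun a => pt (outs.getD a.val 0)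
  have hPinj : Function.Injective P := fun a b h => by
    have h' := congrArg (fun p => (ptEquiv p).val) h
    simp only [P, ptEquiv_pt (hmem a).1, ptEquiv_pt (hmem b).1] at h'
    rw [List.getD_eq_getElem _ _ (hlen.symm ▸ a.isLt), List.getD_eq_getElem _ _ (hlen.symm ▸ b.isLt)] at h'
    exact Fin.ext (hnd.getElem_inj_iff.1 h')
  set w : Fin 16 → leechLattice := fun a => g • axisVec (P a) 8 dvd_rfl with hw
  have hsupp : ∀ a p, p ∉ toSet octMask → (w a : GolayPt → ℤ) p = 0 := by
    intro a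
    rw [← tAut_smul_eq_self]
    have hflip : tAut • axisVec (P a) 8 dvd_rfl = -axisVec (P a) 8 dvd_rfl := by
      refine Subtype.ext (funext fun p => ?_)
      rw [tAut, coe_signAut_smul, signFlip_apply, AddSubgroup.coe_neg, Pi.neg_apply, coe_axisVec]
      rcases eq_or_ne p (P a) with rfl | hp
      · rw [if_pos]
        rw [mem_out, pt_mem_toSet (hmem a).1, (hmem a).2]
        simp
      · rw [Pi.single_eq_of_ne hp]
        simp
    have h := congrArg (fun f : Co0 => f • axisVec (P a) 8 dvd_rfl) e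
    simp only [mul_smul, hflip, neg_smul', smul_neg', neg_inj] at h
    exact h.symm
  let A : Matrix (Fin 16) {p : GolayPt // p ∈ toSet octMask} ℚ :=
    Matrix.of fun a p => ((w a : GolayPt → ℤ) p.1 : ℚ)
  have hAA : A * Aᵀ = (64 : ℚ) • (1 : Matrix (Fin 16) (Fin 16) ℚ) := by
    ext a b
    have h := dot_smul_co g (axisVec (P a) 8 dvd_rfl) (axisVec (P b) 8 dvd_rfl)
    rw [coe_axisVec, coe_axisVec, dotInt_single, Pi.single_apply] at h
    have hdot : dotInt (w a : GolayPt → ℤ) (w b : GolayPt → ℤ) =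
        ∑ p : {p : GolayPt // p ∈ toSet octMask}, (w a : GolayPt → ℤ) p.1 * (w b : GolayPt → ℤ) p.1 := by
      rw [dotInt, Finset.sum_coe_sort (toSet octMask) fun p => (w a : GolayPt → ℤ) p * (w b : GolayPt → ℤ) p]
      exact (Finset.sum_subset (Finset.subset_univ _) fun p _ hp => by rw [hsupp a p hp, zero_mul]).symm
    rw [Matrix.mul_apply, Matrix.smul_apply, Matrix.one_apply, smul_eq_mul]
    simp only [A, Matrix.transpose_apply, Matrix.of_apply, ← Int.cast_mul, ← Int.cast_sum]
    rw [← hdot, show dotInt (w a : GolayPt → ℤ) (w b : GolayPt → ℤ) = _ from h]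
    rcases eq_or_ne a b with rfl | hab
    · simp
    · rw [if_neg, if_neg hab]
      · simp
      · intro hP
        first
          | exact hab (hPinj hP)
          | exact hab (hPinj hP.symm)
  have hr1 : (A * Aᵀ).rank = 16 := by
    rw [hAA, Matrix.rank_of_isUnit]
    · simp
    · rw [show (64 : ℚ) • (1 : Matrix (Fin 16) (Fin 16) ℚ) = algebraMap ℚ _ 64 from (Algebra.algebraMap_eq_smul_one _).symm]
      exact (Ne.isUnit (by norm_num : (64 : ℚ) ≠ 0)).map _
  have hr2 : (A * Aᵀ).rank ≤ 8 := by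
    refine (Matrix.rank_mul_le_left A Aᵀ).trans ((Matrix.rank_le_card_width A).trans ?_)
    rw [Fintype.card_coe, card_toSet, octMask_ok.2.1]
  omega

theorem toCent_surjective : Function.Surjective toCent := by
  rintro ⟨x, hx⟩
  obtain ⟨g, rfl⟩ := QuotientGroup.mk'_surjective (Subgroup.center Co0) x
  have h := Subgroup.mem_centralizer_singleton_iff.1 hx
  rw [zOne, ← map_mul, ← map_mul] at h
  rcases mkOne_eq.1 h with e | e
  · exact ⟨⟨g, Subgroup.mem_centralizer_singleton_iff.2 e⟩, Subtype.ext rfl⟩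
  · exact absurd e (not_anticomm g)

theorem ker_toCent : toCent.ker ≤ toO.ker := by
  intro g hg
  obtain ⟨b0, hb0⟩ := exists_dc_zero
  have h1 : kEl 0 b0 = 1 := by
    rw [kEl, ← monoAut_one]
    exact monoAut_congr trP_zero (by rw [hb0]; ext p; simp [mem_toSet])
  have h : mkOne (g : Co0) = mkOne 1 := by
    rw [map_one]; exact congrArg Subtype.val hg
  refine mem_ker_toO.2 ⟨0, b0, ?_⟩
  rw [h1]
  exact mkOne_eq.1 h

/-- The action of the centraliser. -/
noncomputable def actOne : Subgroup.centralizer ({zOne} : Set Spor.Co1) →* isometryGroup (ZMod 2) ⇑Q8 :=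
  (isoEquiv Q8).symm.toMonoidHom.comp (toCent.liftOfSurjective toCent_surjective ⟨toO, ker_toCent⟩)

theorem actOne_toCent (g : cent0) : actOne (toCent g) = (isoEquiv Q8).symm (toO g) := by
  show (isoEquiv Q8).symm (toCent.liftOfSurjective toCent_surjective ⟨toO, ker_toCent⟩ (toCent g)) = _
  rw [MonoidHom.liftOfRightInverse_comp_apply]

theorem range_actOne : actOne.range = Omega (ZMod 2) ⇑Q8 := by
  have h : actOne.range = toO.range.map (isoEquiv Q8).symm.toMonoidHom := by
    ext y
    constructor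
    · rintro ⟨x, rfl⟩
      obtain ⟨g, rfl⟩ := toCent_surjective x
      exact ⟨toO g, ⟨g, rfl⟩, (actOne_toCent g).symm⟩
    · rintro ⟨_, ⟨g, rfl⟩, rfl⟩
      exact ⟨toCent g, actOne_toCent g⟩
  rw [h, range_eq]
  exact map_commutator_equiv (isoEquiv Q8).symm

/-- The kernel of the short vector stabiliser in the centraliser of the involution. -/
noncomputable def kerMap : toSp.ker →* Subgroup.centralizer ({zOne} : Set Spor.Co1) :=
  toCent.comp ((Subgroup.inclusion (inf_le_right : centS ≤ cent0)).comp toSp.ker.subtype)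

theorem coe_kerMap (x : toSp.ker) :
    ((kerMap x : Subgroup.centralizer ({zOne} : Set Spor.Co1)) : Spor.Co1) = mkOne ((x : centS) : Co0) := rfl

theorem kerMap_injective : Function.Injective kerMap := by
  intro x y e
  have h := congrArg Subtype.val e
  rw [coe_kerMap, coe_kerMap] at h
  obtain ⟨a, b, ex⟩ := exists_kEl x.2
  obtain ⟨a', b', ey⟩ := exists_kEl y.2
  rcases mkOne_eq.1 h with k | k
  · exact Subtype.ext (Subtype.ext k)
  · rw [congrArg Subtype.val ex, congrArg Subtype.val ey] at k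
    exact absurd k (kEl_ne_neg a a' b b')

theorem range_kerMap : kerMap.range = actOne.ker := by
  ext x
  constructor
  · rintro ⟨y, rfl⟩
    obtain ⟨a, b, e⟩ := exists_kEl y.2
    rw [MonoidHom.mem_ker]
    show actOne (toCent _) = 1
    rw [actOne_toCent, EmbeddingLike.map_eq_one_iff]
    refine MonoidHom.mem_ker.1 (mem_ker_toO.2 ⟨a, b, Or.inl ?_⟩)
    exact congrArg Subtype.val e
  · intro hx
    obtain ⟨g, rfl⟩ := toCent_surjective x
    rw [MonoidHom.mem_ker, actOne_toCent, EmbeddingLike.map_eq_one_iff, ← MonoidHom.mem_ker,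
      mem_ker_toO] at hx
    obtain ⟨a, b, h⟩ := hx
    refine ⟨⟨kC a b, kC_mem_ker a b⟩, Subtype.ext ?_⟩
    rw [coe_kerMap, coe_toCent]
    exact (mkOne_eq.2 h).symm

/-- The kernel is the extraspecial group. -/
noncomputable def kerIso : toSp.ker ≃* actOne.ker :=
  (MonoidHom.ofInjective kerMap_injective).trans (MulEquiv.subgroupCongr range_kerMap)

theorem card_actKer : Nat.card actOne.ker = 2 ^ 9 := by
  rw [← Nat.card_congr kerIso.toEquiv, card_ker]
  norm_num

theorem centralizer_actKer :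
    Subgroup.centralizer (actOne.ker : Set (Subgroup.centralizer ({zOne} : Set Spor.Co1))) ≤ actOne.ker := by
  intro x hx
  obtain ⟨g, rfl⟩ := toCent_surjective x
  have hcomm : ∀ a b, (g : Co0) * kEl a b = kEl a b * (g : Co0) := by
    intro a b
    have hk : kerMap ⟨kC a b, kC_mem_ker a b⟩ ∈ actOne.ker := range_kerMap ▸ ⟨_, rfl⟩
    have h := congrArg Subtype.val (Subgroup.mem_centralizer_iff.1 hx _ hk)
    rw [Subgroup.coe_mul, Subgroup.coe_mul, coe_kerMap, coe_toCent, ← map_mul, ← map_mul] at h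
    rcases mkOne_eq.1 h.symm with k | k
    · exact k
    · exfalso
      rw [show ((kC a b : centS) : Co0) = kEl a b from rfl] at k
      have k' := congrArg (fun f : Co0 => f • rootW 0) k
      simp only [mul_smul, kEl_fix, neg_smul',
        kEl_smul (cent0_fix_supp g.2 (rootW_supp 0))] at k'
      have k'' := congrArg (fun v : leechLattice => (g : Co0)⁻¹ • v) k'
      simp only [smul_neg', inv_smul_smul] at k''
      exact root_ne_neg _ k''
  rw [MonoidHom.mem_ker, actOne_toCent, EmbeddingLike.map_eq_one_iff, ← MonoidHom.mem_ker, mem_ker_toO]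
  obtain ⟨b0, hb0⟩ := exists_dc_zero
  obtain ⟨bt, -, ht⟩ := tAut_eq_kEl
  have h1 : kEl 0 b0 = 1 := by
    rw [kEl, ← monoAut_one]
    exact monoAut_congr trP_zero (by rw [hb0]; ext p; simp [mem_toSet])
  rcases centralizer_kEl hcomm with e | e | e | e
  · exact ⟨0, b0, Or.inl (e.trans h1.symm)⟩
  · exact ⟨0, bt, Or.inl (e.trans ht)⟩
  · exact ⟨0, b0, Or.inr (by rw [h1, mul_one, e])⟩
  · exact ⟨0, bt, Or.inr (by rw [← ht, e])⟩

theorem omega_not_two_group : ¬ IsPGroup 2 (Omega (ZMod 2) ⇑Q8) := by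
  intro hp
  have : Fact (Nat.Prime 2) := ⟨Nat.prime_two⟩
  haveI : Finite (qAut Q8) := finite_qAut Q8
  haveI : Finite (isometryGroup (ZMod 2) ⇑Q8) := Finite.of_equiv _ (isoEquiv Q8).symm.toEquiv
  obtain ⟨n, hn⟩ := IsPGroup.iff_card.1 hp
  have e := (Omega (ZMod 2) ⇑Q8).card_mul_index
  rw [index_Omega_two Q8 (polarNondeg_qPlus 4) (by simp) (Or.inr (by simp)), hn,
    Nat.card_congr (isoEquiv Q8).toEquiv, card_qAut_qPlus, card_qAut_plus, ZMod.card,
    ← pow_succ] at e
  have h3 : 3 ∣ 2 ^ (n + 1) := by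
    rw [e]; norm_num [Finset.prod_range_succ]
  exact absurd (Nat.prime_three.dvd_of_dvd_pow h3) (by norm_num)

theorem finite_centOne : Finite (Subgroup.centralizer ({zOne} : Set Spor.Co1)) := by
  have : Finite Co0 := Nat.finite_of_card_ne_zero (by rw [card_co0]; norm_num)
  infer_instance

theorem pCore_eq_actKer :
    pCore 2 (Subgroup.centralizer ({zOne} : Set Spor.Co1)) = actOne.ker := by
  refine le_antisymm ?_ (CfsgLib.Cores.le_pCore (IsPGroup.of_card card_actKer))
  rw [pCore, sSup_le_iff]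
  rintro N ⟨hN, hp⟩
  let φ := (MulEquiv.subgroupCongr range_actOne).toMonoidHom.comp actOne.rangeRestrict
  have hφ : Function.Surjective φ :=
    (MulEquiv.subgroupCongr range_actOne).surjective.comp actOne.rangeRestrict_surjective
  have hZ : Subgroup.center (Omega (ZMod 2) ⇑Q8) = ⊥ := Subgroup.card_eq_one.1
    (card_center_Omega_one Q8 (polarNondeg_qPlus 4) (by simp) fun _ => by decide)
  haveI := isSimpleGroup_POmega Q8 (polarNondeg_qPlus 4) (by simp)
  haveI : IsSimpleGroup (Omega (ZMod 2) ⇑Q8) :=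
    ((QuotientGroup.quotientMulEquivOfEq hZ).trans QuotientGroup.quotientBot).symm.isSimpleGroup
  rcases IsSimpleGroup.eq_bot_or_eq_top_of_normal _ (hN.map φ hφ) with h | h
  · intro x hx
    have := (Subgroup.map_eq_bot_iff _).1 h hx
    rw [MonoidHom.mem_ker] at this ⊢
    exact congrArg Subtype.val this
  · exact absurd (IsPGroup.of_equiv (h ▸ hp.map φ) Subgroup.topEquiv) omega_not_two_group

theorem gfs_eq_actKer :
    generalizedFittingSubgroup (Subgroup.centralizer ({zOne} : Set Spor.Co1)) = actOne.ker := by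
  haveI := finite_centOne
  haveI : Fact (Nat.Prime 2) := ⟨Nat.prime_two⟩
  have h : CfsgLib.Local.HasCharP 2 (Subgroup.centralizer ({zOne} : Set Spor.Co1)) := by
    rw [CfsgLib.Local.HasCharP, pCore_eq_actKer]
    exact centralizer_actKer
  rw [h.generalizedFittingSubgroup_eq, pCore_eq_actKer]

theorem dc_octad_ne : ∀ b : Fin 32, bitCount (dc b.val) = 8 → dc b.val ≠ outMask := by
  decide +kernel

theorem perm_conj {π : Equiv.Perm GolayPt} (hπ : π ∈ M24) {o c : Finset GolayPt} (ho : CodeSet o)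
    (hc : CodeSet c) (h : π • o = Finset.univ ∆ c) :
    monoAut π hπ ∅ codeSet_empty * monoAut 1 (one_mem M24) o ho =
      negAut * monoAut 1 (one_mem M24) c hc * monoAut π hπ ∅ codeSet_empty := by
  refine co_ext fun v => Subtype.ext (funext fun i => ?_)
  have hi : π.symm i ∈ o ↔ ¬ i ∈ c := by
    rw [← Equiv.Perm.inv_def, ← Equiv.Perm.smul_def, Finset.inv_smul_mem_iff, h]
    simp [Finset.mem_symmDiff]
  simp only [mul_smul, coe_monoAut_smul, coe_negAut_smul, Pi.neg_apply, signedPerm,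
    Finset.notMem_empty, if_false, Equiv.Perm.one_def, Equiv.refl_symm, Equiv.refl_apply]
  by_cases hc' : i ∈ c <;> simp [hc', hi]

theorem smul_compl {B o₁ o₂ : Finset GolayPt} {g₁ g₂ : Equiv.Perm GolayPt} (h1 : g₁ • B = o₁)
    (h2 : g₂ • B = o₂) : (g₂ * g₁⁻¹) • (Finset.univ ∆ o₁) = Finset.univ ∆ o₂ := by
  subst h1 h2
  rw [Finset.smul_finset_symmDiff, Finset.smul_finset_univ, mul_smul, inv_smul_smul]

theorem out_eq_compl : toSet outMask = Finset.univ ∆ toSet octMask := by
  ext p; simp [Finset.mem_symmDiff, mem_out]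

theorem exists_conj : ∃ g : Spor.Co1,
    (∃ hq : g * zOne * g⁻¹ ∈ Subgroup.centralizer ({zOne} : Set Spor.Co1),
      (⟨g * zOne * g⁻¹, hq⟩ : Subgroup.centralizer ({zOne} : Set Spor.Co1)) ∈ actOne.ker) ∧
      g * zOne * g⁻¹ ≠ zOne := by
  obtain ⟨b, hb⟩ := dc_octad
  have hO : toSet octMask ∈ octads := mem_wordsOfWeight.2
    ⟨_, mem_golayList_of_inCode octMask_ok.1, octMask_ok.2.1, rfl⟩
  have hB : toSet (dc b.val) ∈ octads := mem_wordsOfWeight.2
    ⟨_, mem_golayList_of_inCode (disj_ok.2.2.1 _ b.isLt).1, hb, rfl⟩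
  obtain ⟨g1, hg1, e1⟩ := octads_transitive hO
  obtain ⟨g2, hg2, e2⟩ := octads_transitive hB
  set π := g2 * g1⁻¹ with hπdef
  have hπ : π ∈ M24 := mul_mem hg2 (inv_mem hg1)
  have hout : π • toSet outMask = Finset.univ ∆ toSet (dc b.val) := by
    rw [out_eq_compl]
    exact smul_compl e1 e2
  have key : monoAut π hπ ∅ codeSet_empty * tAut = negAut * kEl 0 b * monoAut π hπ ∅ codeSet_empty := by
    have hk : kEl 0 b = monoAut 1 (one_mem M24) (toSet (dc b.val)) (dc_code b) :=
      monoAut_congr trP_zero rfl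
    rw [tAut_eq_mono, hk]
    exact perm_conj hπ outCode (dc_code b) hout
  refine ⟨mkOne (monoAut π hπ ∅ codeSet_empty), ?_⟩
  have hconj : mkOne (monoAut π hπ ∅ codeSet_empty) * zOne * (mkOne (monoAut π hπ ∅ codeSet_empty))⁻¹ =
      mkOne (kEl 0 b) := by
    rw [mul_inv_eq_iff_eq_mul, zOne, ← map_mul, key, map_mul, map_mul,
      show mkOne negAut = 1 from (QuotientGroup.eq_one_iff _).2 negAut_central, one_mul]
  rw [hconj]
  let y : toSp.ker := ⟨kC 0 b, kC_mem_ker 0 b⟩
  refine ⟨⟨(kerMap y).2, range_kerMap ▸ ⟨y, rfl⟩⟩, fun e => ?_⟩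
  obtain ⟨bt, hbt, ht⟩ := tAut_eq_kEl
  rw [zOne] at e
  rcases mkOne_eq.1 e with k | k
  · rw [tAut_eq_mono, kEl] at k
    have := toSet_inj (disj_ok.2.2.1 _ b.isLt).2.2 (by decide +kernel) (monoAut_injective k).2
    exact dc_octad_ne b hb this
  · rw [ht] at k
    exact kEl_ne_neg _ _ _ _ k

theorem co1_centralizer_eight :
    ∃ z : Spor.Co1, orderOf z = 2 ∧ ∃ (Q : Subgroup (Subgroup.centralizer ({z} : Set Spor.Co1))) (_ : Q.Normal),
      generalizedFittingSubgroup (Subgroup.centralizer ({z} : Set Spor.Co1)) = Q ∧ IsExtraspecial 2 Q ∧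
      Nat.card Q = 2 ^ 9 ∧
      Nonempty ((Subgroup.centralizer ({z} : Set Spor.Co1)) ⧸ Q ≃* Omega (ZMod 2) (quadFormPlus 4 (ZMod 2))) ∧
      ∃ g : Spor.Co1, (∃ hq : g * z * g⁻¹ ∈ Subgroup.centralizer ({z} : Set Spor.Co1),
        (⟨g * z * g⁻¹, hq⟩ : Subgroup.centralizer ({z} : Set Spor.Co1)) ∈ Q) ∧ g * z * g⁻¹ ≠ z := by
  refine ⟨zOne, orderOf_zOne, actOne.ker, inferInstance, gfs_eq_actKer,
    CfsgLib.LargeExtra.isExtraspecial_of_mulEquiv kerIso CfsgLib.Leech.CoTwo.ker_extraspecial,
    card_actKer, ?_, exists_conj⟩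
  rw [← coe_qPlus]
  exact ⟨(QuotientGroup.quotientKerEquivRange actOne).trans (MulEquiv.subgroupCongr range_actOne)⟩

end CfsgLib.Leech.CoOne
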